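import Cfsg.Agent.Lib.UniqueDegreeP.Transfer
import Cfsg.Agent.Lib.Blk83.CyclicAlg
import Cfsg.Agent.Lib.HalfDegree.Adjoint
import Mathlib.LinearAlgebra.QuadraticForm.Basic
import Mathlib.LinearAlgebra.Matrix.BilinearForm

/-!
# A simple group with a self-dual module of dimension three lies in `PGL₂`
-/

set_option autoImplicit false
set_option linter.unusedSectionVars false

namespace CfsgLib.UniqueDegreeP

open Matrix CfsgLib.Blk83.Cyc CfsgLib.PSL2Sub
open scoped Classical

universe u w

variable {G : Type u} [Group G] {k : Type w} [Field k]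

/-- A perfect simple group with an involution has no nontrivial action in dimension two. -/
theorem eq_one_of_le_two [IsSimpleGroup G] (hperf : commutator G = ⊤) (h2 : (2 : k) ≠ 0) {j : G}
    (hj : j ≠ 1) (hj2 : j * j = 1) {n : ℕ} (hn : n ≤ 2)
    (M : G →* Matrix (Fin n) (Fin n) k) (g : G) : M g = 1 := by
  have hdet : ∀ g, (M g).det = 1 := by
    intro g
    let f : G →* kˣ := (Matrix.detMonoidHom.comp M).toHomUnits
    have hg : g ∈ f.ker := Abelianization.commutator_subset_ker f (hperf ▸ Subgroup.mem_top g)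
    exact congrArg (Units.val) (MonoidHom.mem_ker.1 hg)
  interval_cases n
  · exact Subsingleton.elim _ _
  · have := hdet g
    rw [Matrix.det_fin_one] at this
    ext r c
    fin_cases r; fin_cases c
    simpa using this
  · let N : Subgroup G :=
      { carrier := {g | M g = 1}
        one_mem' := map_one M
        mul_mem' := fun {a b} (ha : M a = 1) (hb : M b = 1) => show M (a * b) = 1 by
          rw [map_mul, ha, hb, one_mul]
        inv_mem' := fun {a} (ha : M a = 1) => show M a⁻¹ = 1 by
          have h1 := map_mul M a⁻¹ a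
          rwa [inv_mul_cancel, map_one, ha, mul_one, eq_comm] at h1 }
    have hN : N.Normal := ⟨fun a (ha : M a = 1) b => show M (b * a * b⁻¹) = 1 by
      rw [map_mul, map_mul, ha, mul_one, ← map_mul, mul_inv_cancel, map_one]⟩
    rcases hN.eq_bot_or_eq_top with h0 | h0
    swap
    · exact (h0 ▸ Subgroup.mem_top g : g ∈ N)
    exfalso
    -- the involution becomes central
    set X := M j with hX
    have hX2 : X * X = 1 := by rw [hX, ← map_mul, hj2, map_one]
    have hd := hdet j
    rw [← hX, Matrix.det_fin_two] at hd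
    have e00 := congrFun (congrFun hX2 0) 0
    have e01 := congrFun (congrFun hX2 0) 1
    have e10 := congrFun (congrFun hX2 1) 0
    have e11 := congrFun (congrFun hX2 1) 1
    simp [Matrix.mul_apply, Fin.sum_univ_two] at e00 e01 e10 e11
    have ht : (X 0 0 + X 1 1) * X 0 0 = 2 := by linear_combination e00 + hd
    have ht0 : X 0 0 + X 1 1 ≠ 0 := fun h => h2 (by rw [h, zero_mul] at ht; exact ht.symm)
    have h01 : X 0 1 = 0 :=
      (mul_eq_zero.1 (show (X 0 0 + X 1 1) * X 0 1 = 0 by linear_combination e01)).resolve_left ht0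
    have h10 : X 1 0 = 0 :=
      (mul_eq_zero.1 (show (X 0 0 + X 1 1) * X 1 0 = 0 by linear_combination e10)).resolve_left ht0
    have h11 : X 1 1 = X 0 0 := by
      refine mul_left_cancel₀ ht0 ?_
      linear_combination e11 - e00
    have hscal : X = X 0 0 • (1 : Matrix (Fin 2) (Fin 2) k) := by
      ext r c
      fin_cases r <;> fin_cases c <;> simp [h01, h10, h11]
    have hcen : j ∈ Subgroup.center G := by
      rw [Subgroup.mem_center_iff]
      intro b
      have hb : (b * j) * (j * b)⁻¹ ∈ N := by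
        show M _ = 1
        have hcomm : M b * X = X * M b := by
          rw [hscal, smul_mul_assoc, mul_smul_comm, one_mul, mul_one]
        rw [map_mul, map_mul, ← hX, hcomm, hX, ← map_mul, ← map_mul, mul_inv_cancel, map_one]
      rw [h0, Subgroup.mem_bot, mul_inv_eq_one] at hb
      exact hb
    rcases (inferInstance : (Subgroup.center G).Normal).eq_bot_or_eq_top with h1 | h1
    · exact hj (by rwa [h1, Subgroup.mem_bot] at hcen)
    · rw [← commutator_eq_bot_iff_center_eq_top, hperf] at h1
      exact hj (by simpa [h1] using Subgroup.mem_top j)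

/-- The same for any module of dimension at most two. -/
theorem end_eq_one_of_le_two [IsSimpleGroup G] (hperf : commutator G = ⊤) (h2 : (2 : k) ≠ 0)
    {j : G} (hj : j ≠ 1) (hj2 : j * j = 1) {V : Type*} [AddCommGroup V] [Module k V]
    [FiniteDimensional k V] (hV : Module.finrank k V ≤ 2) (f : G →* Module.End k V) (g : G) :
    f g = 1 := by
  let b := Module.finBasis k V
  let e := LinearMap.toMatrixAlgEquiv b
  have h := eq_one_of_le_two hperf h2 hj hj2 hV (e.toAlgHom.toMonoidHom.comp f) g
  exact e.injective (h.trans (map_one e).symm)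

/-- The action of the group algebra. -/
noncomputable def algAct (R : G →* Matrix (Fin 3) (Fin 3) k) :
    MonoidAlgebra k G →ₐ[k] Module.End k (Fin 3 → k) :=
  MonoidAlgebra.lift k (Module.End k (Fin 3 → k)) G
    ((Matrix.toLinAlgEquiv' : Matrix (Fin 3) (Fin 3) k ≃ₐ[k] _).toAlgHom.toMonoidHom.comp R)

theorem algAct_single (R : G →* Matrix (Fin 3) (Fin 3) k) (g : G) :
    algAct R (MonoidAlgebra.single g 1) = (R g).mulVecLin := by
  rw [algAct, MonoidAlgebra.lift_single, one_smul]
  rfl

/-- A three-dimensional action with a trace other than three is irreducible. -/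
theorem simp_algAct [IsSimpleGroup G] (hperf : commutator G = ⊤) (h2 : (2 : k) ≠ 0) {j : G}
    (hj : j ≠ 1) (hj2 : j * j = 1) (R : G →* Matrix (Fin 3) (Fin 3) k) {s : G}
    (hs : (R s).trace ≠ 3) : Simp (algAct R) := by
  refine ⟨⟨Pi.single 0 1, fun h => (one_ne_zero : (1 : k) ≠ 0) (by simpa using congrFun h 0)⟩,
    fun W hW => ?_⟩
  by_contra hc
  push Not at hc
  have hst : ∀ g, ∀ w ∈ W, (R g).mulVecLin w ∈ W := fun g w hw => by
    have := hW (MonoidAlgebra.single g 1) w hw
    rwa [algAct_single] at this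
  have h3 : Module.finrank k (Fin 3 → k) = 3 := by simp
  have hWle : Module.finrank k W ≤ 2 := by
    have := Submodule.finrank_lt hc.2
    omega
  have hqle : Module.finrank k ((Fin 3 → k) ⧸ W) ≤ 2 := by
    have h1 := W.finrank_quotient_add_finrank
    have h2 : 0 < Module.finrank k W := Nat.pos_of_ne_zero fun h =>
      hc.1 (Submodule.finrank_eq_zero.1 h)
    omega
  let fW : G →* Module.End k W :=
    { toFun := fun g => ((R g).mulVecLin).restrict (hst g)
      map_one' := LinearMap.ext fun w => Subtype.ext (by simp)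
      map_mul' := fun a b => LinearMap.ext fun w => Subtype.ext (by simp) }
  let fQ : G →* Module.End k ((Fin 3 → k) ⧸ W) :=
    { toFun := fun g => W.mapQ W (R g).mulVecLin (hst g)
      map_one' := Submodule.linearMap_qext _ (LinearMap.ext fun w => by simp)
      map_mul' := fun a b => Submodule.linearMap_qext _ (LinearMap.ext fun w => by simp) }
  have e := trace_eq_of_surjective W.mkQ (Submodule.mkQ_surjective W) (R s).mulVecLin (fQ s)
    (LinearMap.ext fun w => rfl) (fun w hw => by
      rw [Submodule.ker_mkQ] at hw ⊢; exact hst s w hw)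
  have hUeq : ∀ (S' : Submodule k (Fin 3 → k)) (hS' : S' = W)
      (hst' : ∀ w ∈ S', (R s).mulVecLin w ∈ S'),
      LinearMap.trace k S' ((R s).mulVecLin.restrict hst') = LinearMap.trace k W (fW s) := by
    rintro S' rfl hst'; rfl
  rw [hUeq _ (Submodule.ker_mkQ W), end_eq_one_of_le_two hperf h2 hj hj2 hWle fW s,
    end_eq_one_of_le_two hperf h2 hj hj2 hqle fQ s, LinearMap.trace_one, LinearMap.trace_one,
    show LinearMap.trace k _ (R s).mulVecLin = (R s).trace from Matrix.trace_toLin'_eq (R s),
    ← Nat.cast_add, add_comm, W.finrank_quotient_add_finrank, h3] at e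
  exact hs (by exact_mod_cast e)

/-- A nondegenerate symmetric form over an algebraically closed field is the standard one. -/
theorem exists_congr_one [IsAlgClosed k] (h2 : (2 : k) ≠ 0) (B : Matrix (Fin 3) (Fin 3) k)
    (hB : Bᵀ = B) (hdet : B.det ≠ 0) :
    ∃ P : Matrix (Fin 3) (Fin 3) k, P.det ≠ 0 ∧ Pᵀ * B * P = 1 := by
  haveI : Invertible (2 : k) := invertibleOfNonzero h2
  have hsymm : LinearMap.IsSymm (Matrix.toBilin' B) := ⟨fun v w => by
    simp only [Matrix.toBilin'_apply', RingHom.id_apply]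
    rw [Matrix.dotProduct_mulVec, ← Matrix.mulVec_transpose, hB, dotProduct_comm]⟩
  obtain ⟨v, hv⟩ := LinearMap.BilinForm.exists_orthogonal_basis hsymm
  let σ : Fin 3 ≃ Fin (Module.finrank k (Fin 3 → k)) := finCongr (by simp)
  let v' := v.reindex σ.symm
  let P₀ : Matrix (Fin 3) (Fin 3) k := (Pi.basisFun k (Fin 3)).toMatrix v'
  have hP₀ : P₀.det ≠ 0 := by
    have h := (Pi.basisFun k (Fin 3)).toMatrix_mul_toMatrix_flip v'
    intro h0
    have := congrArg Matrix.det h
    rw [Matrix.det_mul, h0, zero_mul, Matrix.det_one] at this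
    exact zero_ne_one this
  have hentry : ∀ i l, (P₀ᵀ * B * P₀) i l = Matrix.toBilin' B (v' i) (v' l) := fun i l => by
    rw [Matrix.toBilin'_apply', Matrix.mul_assoc, Matrix.mul_apply]
    refine Finset.sum_congr rfl fun a _ => ?_
    simp [P₀, Module.Basis.toMatrix_apply, Matrix.mul_apply, Matrix.mulVec, dotProduct]
  set D := P₀ᵀ * B * P₀ with hD
  have hoff : ∀ i l, i ≠ l → D i l = 0 := fun i l hil => by
    rw [hentry]
    simp only [v', Module.Basis.reindex_apply, Equiv.symm_symm]
    exact hv (σ.injective.ne hil)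
  have hDdiag : D = Matrix.diagonal fun i => D i i := by
    ext i l
    rcases eq_or_ne i l with rfl | hil
    · simp
    · rw [Matrix.diagonal_apply_ne _ hil, hoff i l hil]
  have hDdet : D.det ≠ 0 := by
    rw [hD, Matrix.det_mul, Matrix.det_mul, Matrix.det_transpose]
    exact mul_ne_zero (mul_ne_zero hP₀ hdet) hP₀
  have hdi : ∀ i, D i i ≠ 0 := fun i h0 => hDdet (by
    rw [hDdiag, Matrix.det_diagonal]
    exact Finset.prod_eq_zero (Finset.mem_univ i) h0)
  choose r hr using fun i => IsAlgClosed.exists_eq_mul_self (D i i)⁻¹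
  refine ⟨P₀ * Matrix.diagonal r, ?_, ?_⟩
  · rw [Matrix.det_mul, Matrix.det_diagonal]
    refine mul_ne_zero hP₀ (Finset.prod_ne_zero_iff.2 fun i _ h0 => ?_)
    exact inv_ne_zero (hdi i) (by rw [hr i, h0, mul_zero])
  · rw [Matrix.transpose_mul, Matrix.diagonal_transpose,
      show Matrix.diagonal r * P₀ᵀ * B * (P₀ * Matrix.diagonal r) =
        Matrix.diagonal r * D * Matrix.diagonal r by rw [hD]; simp only [Matrix.mul_assoc],
      hDdiag, Matrix.diagonal_mul_diagonal, Matrix.diagonal_mul_diagonal, ← Matrix.diagonal_one]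
    congr 1
    funext i
    rw [mul_comm (r i), mul_assoc, ← hr i, mul_inv_cancel₀ (hdi i)]

/-- A simple group with a self-dual nontrivial module of dimension three embeds in `PGL₂`. -/
theorem exists_hom_pg [IsSimpleGroup G] [IsAlgClosed k] (hperf : commutator G = ⊤)
    (h2 : (2 : k) ≠ 0) {j : G} (hj : j ≠ 1) (hj2 : j * j = 1)
    (R : G →* Matrix (Fin 3) (Fin 3) k) (htr : ∀ g, (R g⁻¹).trace = (R g).trace) {s : G}
    (hs : (R s).trace ≠ 3) : ∃ ψ : G →* PG k, Function.Injective ψ := by
  have hρ := simp_algAct hperf h2 hj hj2 R hs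
  let R' : G →* Matrix (Fin 3) (Fin 3) k :=
    { toFun := fun g => (R g⁻¹)ᵀ
      map_one' := by simp
      map_mul' := fun a b => by rw [_root_.mul_inv_rev, map_mul, Matrix.transpose_mul] }
  have hR'tr : ∀ g, (R' g).trace = (R g).trace := fun g => by
    show ((R g⁻¹)ᵀ).trace = _
    rw [Matrix.trace_transpose, htr]
  have hσ := simp_algAct hperf h2 hj hj2 R' (s := s) (by rw [hR'tr]; exact hs)
  have htrace : ∀ a, LinearMap.trace k _ (algAct R' a) = LinearMap.trace k _ (algAct R a) := by
    intro a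
    induction a using MonoidAlgebra.induction_linear with
    | zero => simp
    | add a b ha hb => rw [map_add, map_add, map_add, map_add, ha, hb]
    | single g r =>
      rw [← mul_one r, ← smul_eq_mul, ← MonoidAlgebra.smul_single, map_smul, map_smul, map_smul,
        map_smul, algAct_single, algAct_single]
      congr 1
      exact (Matrix.trace_toLin'_eq _).trans ((hR'tr g).trans (Matrix.trace_toLin'_eq _).symm)
  obtain ⟨φ, hφ⟩ := hρ.exists_equiv hσ fun a ha => by
    refine LinearMap.ext fun v => ?_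
    by_contra hv
    obtain ⟨χ, hχ⟩ := Module.Projective.exists_dual_eq_one k hv
    obtain ⟨b, hb⟩ := hσ.surjective (χ.smulRight v)
    have h1 := htrace (b * a)
    rw [map_mul (algAct R), ha, mul_zero, map_zero, map_mul, hb, Module.End.mul_eq_comp,
      show χ.smulRight v ∘ₗ algAct R' a = (χ ∘ₗ algAct R' a).smulRight v from LinearMap.ext fun _ => rfl,
      LinearMap.trace_smulRight, LinearMap.comp_apply, hχ] at h1
    exact one_ne_zero h1
  set B : Matrix (Fin 3) (Fin 3) k := LinearMap.toMatrix' φ.toLinearMap with hBdef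
  have hBR : ∀ g, B * R g = R' g * B := fun g => by
    refine Matrix.toLin'.injective (LinearMap.ext fun v => ?_)
    rw [Matrix.toLin'_mul, Matrix.toLin'_mul, hBdef, Matrix.toLin'_toMatrix']
    have := hφ (MonoidAlgebra.single g 1) v
    rw [algAct_single, algAct_single] at this
    exact this
  have hBdet : B.det ≠ 0 := by
    intro h0
    obtain ⟨v, hv, hv0⟩ := Matrix.exists_mulVec_eq_zero_iff.2 h0
    apply hv
    refine φ.injective ?_
    rw [map_zero]
    rwa [hBdef, ← Matrix.toLin'_apply, Matrix.toLin'_toMatrix'] at hv0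
  have hinv : ∀ g, (R g)ᵀ * B * R g = B := fun g => by
    rw [Matrix.mul_assoc, hBR, ← Matrix.mul_assoc, show R' g = (R g⁻¹)ᵀ from rfl,
      ← Matrix.transpose_mul, ← map_mul, inv_mul_cancel, map_one, Matrix.transpose_one,
      Matrix.one_mul]
  -- symmetry
  have hBT : Bᵀ = B := by
    have hu : IsUnit B.det := isUnit_iff_ne_zero.2 hBdet
    have hBT : ∀ g, Bᵀ * R g = R' g * Bᵀ := fun g => by
      have h1 := congrArg Matrix.transpose (hBR g⁻¹)
      rw [Matrix.transpose_mul, Matrix.transpose_mul, show R' g⁻¹ = (R g)ᵀ by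
        show (R g⁻¹⁻¹)ᵀ = _; rw [inv_inv], Matrix.transpose_transpose] at h1
      exact h1.symm
    obtain ⟨c, hc⟩ := hρ.schur (B⁻¹ * Bᵀ).mulVecLin fun a => by
      induction a using MonoidAlgebra.induction_linear with
      | zero => simp
      | add a b ha hb => rw [map_add]; exact ha.add_left hb
      | single g r =>
        rw [← mul_one r, ← smul_eq_mul, ← MonoidAlgebra.smul_single, map_smul, algAct_single]
        refine Commute.smul_left ?_ r
        show (R g).mulVecLin ∘ₗ _ = _ ∘ₗ (R g).mulVecLin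
        rw [← Matrix.mulVecLin_mul, ← Matrix.mulVecLin_mul]
        congr 1
        have h1 : B⁻¹ * (B * R g) = R g := Matrix.nonsing_inv_mul_cancel_left _ _ hu
        calc R g * (B⁻¹ * Bᵀ) = B⁻¹ * (B * R g) * (B⁻¹ * Bᵀ) := by rw [h1]
          _ = B⁻¹ * (R' g * ((B * B⁻¹) * Bᵀ)) := by
            rw [hBR]; simp only [Matrix.mul_assoc]
          _ = B⁻¹ * (Bᵀ * R g) := by rw [Matrix.mul_nonsing_inv _ hu, Matrix.one_mul, hBT]
          _ = B⁻¹ * Bᵀ * R g := by rw [Matrix.mul_assoc]
    have hc' : B⁻¹ * Bᵀ = c • 1 := by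
      refine Matrix.toLin'.injective ?_
      rw [map_smul, Matrix.toLin'_one]
      exact hc
    have hcB : Bᵀ = c • B := by
      have h1 := congrArg (fun X => B * X) hc'
      rwa [Matrix.mul_nonsing_inv_cancel_left _ _ hu, Matrix.mul_smul, Matrix.mul_one] at h1
    have hc3 : c ^ 3 = 1 := by
      have h1 := congrArg Matrix.det hcB
      rw [Matrix.det_transpose, Matrix.det_smul, Fintype.card_fin] at h1
      exact (mul_right_cancel₀ hBdet ((one_mul _).trans h1)).symm
    have hc2 : c * c = 1 := by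
      have h1 := congrArg Matrix.transpose hcB
      rw [Matrix.transpose_transpose, Matrix.transpose_smul, hcB, smul_smul] at h1
      by_contra hne
      have hB0 : (c * c - 1) • B = 0 := by rw [sub_smul, one_smul, ← h1, sub_self]
      rcases smul_eq_zero.1 hB0 with h4 | h4
      · exact hne (sub_eq_zero.1 h4)
      · exact hBdet (by rw [h4]; simp)
    have : c = 1 := by linear_combination hc3 - c * hc2
    rw [hcB, this, one_smul]
  let K : Matrix (Fin 3) (Fin 3) k := !![0, 0, 1; 0, 2, 0; 1, 0, 0]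
  obtain ⟨PB, hPBd, hPB⟩ := exists_congr_one h2 B hBT hBdet
  obtain ⟨PK, hPKd, hPK⟩ := exists_congr_one h2 K
    (by ext r c; fin_cases r <;> fin_cases c <;> simp [K])
    (by simp [K, Matrix.det_fin_three, h2])
  have huK : IsUnit PK.det := isUnit_iff_ne_zero.2 hPKd
  set P := PB * PK⁻¹ with hP
  have hPd : IsUnit P.det := by
    rw [hP, Matrix.det_mul]
    exact (isUnit_iff_ne_zero.2 hPBd).mul (Matrix.isUnit_nonsing_inv_det _ huK)
  have hPBP : Pᵀ * B * P = K := by
    calc Pᵀ * B * P = (PK⁻¹)ᵀ * (PBᵀ * B * PB) * PK⁻¹ := by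
          rw [hP, Matrix.transpose_mul]; simp only [Matrix.mul_assoc]
      _ = (PK⁻¹)ᵀ * (PKᵀ * K * PK) * PK⁻¹ := by rw [hPB, hPK]
      _ = (PK * PK⁻¹)ᵀ * K * (PK * PK⁻¹) := by
          rw [Matrix.transpose_mul]; simp only [Matrix.mul_assoc]
      _ = K := by
          rw [Matrix.mul_nonsing_inv _ huK, Matrix.transpose_one, Matrix.one_mul, Matrix.mul_one]
  let cd : Matrix (Fin 2) (Fin 2) k →ₗ[k] (Fin 3 → k) :=
    { toFun := fun A => ![A 0 1, A 0 0, A 1 0]
      map_add' := fun A C => by ext i; fin_cases i <;> simp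
      map_smul' := fun r A => by ext i; fin_cases i <;> simp }
  let mk2 : (Fin 3 → k) →ₗ[k] Matrix (Fin 2) (Fin 2) k :=
    { toFun := fun v => !![v 1, v 0; v 2, -v 1]
      map_add' := fun v v' => by
        ext r c; fin_cases r <;> fin_cases c <;> simp [add_comm]
      map_smul' := fun r v => by
        ext a c; fin_cases a <;> fin_cases c <;> simp }
  have hcd : ∀ v, cd (mk2 v) = v := fun v => by ext i; fin_cases i <;> rfl
  have hmk : ∀ A : Matrix (Fin 2) (Fin 2) k, A.trace = 0 → mk2 (cd A) = A := fun A hA => by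
    conv_rhs => rw [HalfDegree.traceless_eq hA]
    rfl
  have hmktr : ∀ v, (mk2 v).trace = 0 := fun v => by
    simp [mk2, Matrix.trace_fin_two]
  let S : G → Matrix (Fin 3) (Fin 3) k := fun g => P⁻¹ * R g * P
  have hS1 : S 1 = 1 := by simp only [S, map_one, Matrix.mul_one, Matrix.nonsing_inv_mul _ hPd]
  have hSm : ∀ g h, S (g * h) = S g * S h := fun g h => by
    simp only [S, map_mul, Matrix.mul_assoc, Matrix.mul_nonsing_inv_cancel_left _ _ hPd]
  have hSK : ∀ g, (S g)ᵀ * K * S g = K := fun g => by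
    conv_rhs => rw [← hPBP, ← hinv g]
    simp only [S, ← hPBP, Matrix.transpose_mul, Matrix.mul_assoc,
      Matrix.mul_nonsing_inv_cancel_left _ _ hPd]
    rw [← Matrix.mul_assoc (P⁻¹)ᵀ, ← Matrix.transpose_mul, Matrix.mul_nonsing_inv _ hPd,
      Matrix.transpose_one, Matrix.one_mul]
  have hform : ∀ A C : Matrix (Fin 2) (Fin 2) k, A.trace = 0 → C.trace = 0 →
      (A * C).trace = cd A ⬝ᵥ K *ᵥ cd C := fun A C hA hC => by
    conv_lhs => rw [HalfDegree.traceless_eq hA, HalfDegree.traceless_eq hC]
    simp [cd, K, Matrix.trace_fin_two, Matrix.mul_apply, Fin.sum_univ_two, Matrix.mulVec,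
      dotProduct, Fin.sum_univ_three]
    ring
  let L : G → (Matrix (Fin 2) (Fin 2) k →ₗ[k] Matrix (Fin 2) (Fin 2) k) :=
    fun g => mk2 ∘ₗ (S g).mulVecLin ∘ₗ cd
  have hLa : ∀ g A, L g A = mk2 (S g *ᵥ cd A) := fun g A => rfl
  obtain ⟨ψ, hψ⟩ := HalfDegree.exists_hom_PG h2 L
    (fun A hA => by rw [hLa, hS1, Matrix.one_mulVec, hmk A hA])
    (fun g g' A hA => by rw [hLa, hLa, hLa, hcd, hSm, Matrix.mulVec_mulVec])
    (fun g A _ => hmktr _)
    (fun g A C hA hC => by
      rw [hLa, hLa, hform _ _ (hmktr _) (hmktr _), hform A C hA hC, hcd, hcd]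
      conv_rhs => rw [← hSK g, ← Matrix.mulVec_mulVec, ← Matrix.mulVec_mulVec,
        Matrix.dotProduct_mulVec (cd A) (S g)ᵀ, Matrix.vecMul_transpose])
  refine ⟨ψ, ?_⟩
  rw [← MonoidHom.ker_eq_bot_iff]
  refine (ψ.normal_ker.eq_bot_or_eq_top).resolve_right fun htop => ?_
  -- a scalar action leaves a line invariant
  have hall : ∀ g, ∃ ε : k, ∀ v, (R g).mulVecLin v = ε • v := fun g => by
    obtain ⟨ε, -, hε⟩ := (hψ g).1 (MonoidHom.mem_ker.1 (htop ▸ Subgroup.mem_top g))
    refine ⟨ε, fun v => ?_⟩
    have h1 := congrArg cd (hε (mk2 (P⁻¹ *ᵥ v)) (hmktr _))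
    rw [hLa, hcd, hcd, map_smul, hcd] at h1
    have h3 := congrArg (fun u => P *ᵥ u) h1
    simp only [S, Matrix.mulVec_mulVec, Matrix.mulVec_smul, Matrix.mul_assoc,
      Matrix.mul_nonsing_inv _ hPd, Matrix.mul_one, Matrix.one_mulVec,
      Matrix.mul_nonsing_inv_cancel_left _ _ hPd] at h3
    simpa using h3
  set W : Submodule k (Fin 3 → k) := Submodule.span k {Pi.single 0 1} with hW
  have hne : (Pi.single 0 1 : Fin 3 → k) ≠ 0 :=
    fun h => (one_ne_zero : (1 : k) ≠ 0) (by simpa using congrFun h 0)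
  rcases hρ.simple W (fun a w hw => by
    induction a using MonoidAlgebra.induction_linear with
    | zero => simp
    | add a b ha hb => rw [map_add]; exact W.add_mem ha hb
    | single g r =>
      obtain ⟨ε, hε⟩ := hall g
      rw [← mul_one r, ← smul_eq_mul, ← MonoidAlgebra.smul_single, map_smul, algAct_single,
        LinearMap.smul_apply, hε]
      exact W.smul_mem _ (W.smul_mem _ hw)) with h0 | h0
  · exact hne (Submodule.span_singleton_eq_bot.1 h0)
  · have h1 := finrank_span_singleton (K := k) hne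
    rw [← hW, h0, finrank_top] at h1
    simp at h1

end CfsgLib.UniqueDegreeP
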