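import Cfsg.Agent.Lib.Char.Virtual
import Cfsg.Agent.Lib.Char.Basic
import Mathlib.GroupTheory.Abelianization.Defs
import Mathlib.LinearAlgebra.Determinant
import Mathlib.RingTheory.RootsOfUnity.PrimitiveRoots

/-!
# Sums of eigenvalue exponents

For an element of order dividing `e` in a perfect group the exponents of its eigenvalues add up to a
multiple of `e`, as the determinant is trivial; this is a linear condition on character values.
-/

set_option autoImplicit false

namespace CfsgLib.UniqueDegreeP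

universe u

open scoped Classical

/-- The sum of the exponents, as a linear functional of the values at the powers. -/
noncomputable def expSum (ω : ℂ) (e : ℕ) (f : ℕ → ℂ) : ℂ :=
  (e : ℂ)⁻¹ * ∑ k ∈ Finset.range e, f k * ∑ j ∈ Finset.range e, (j : ℂ) * ω ^ (k * (e - j))

variable {ω : ℂ} {e : ℕ}

/-- Geometric sums of roots of unity. -/
theorem sum_pow_mul (hω : IsPrimitiveRoot ω e) (n : ℕ) :
    ∑ k ∈ Finset.range e, ω ^ (k * n) = if e ∣ n then (e : ℂ) else 0 := by
  simp only [mul_comm _ n, pow_mul]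
  split_ifs with h
  · rw [(hω.pow_eq_one_iff_dvd n).2 h]
    simp
  · have h1 : ω ^ n ≠ 1 := fun h1 => h ((hω.pow_eq_one_iff_dvd n).1 h1)
    have h2 := geom_sum_mul (ω ^ n) e
    rw [← pow_mul, mul_comm n e, pow_mul, hω.pow_eq_one, one_pow, sub_self] at h2
    exact (mul_eq_zero.1 h2).resolve_right (sub_ne_zero.2 h1)

theorem expSum_single (hω : IsPrimitiveRoot ω e) (he : e ≠ 0) {l : ℕ} (hl : l < e) :
    expSum ω e (fun k => ω ^ (k * l)) = (l : ℂ) := by
  have h : ∀ j ∈ Finset.range e, ∑ k ∈ Finset.range e, ω ^ (k * l) * ((j : ℂ) * ω ^ (k * (e - j))) =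
      (j : ℂ) * if j = l then (e : ℂ) else 0 := by
    intro j hj
    rw [Finset.mem_range] at hj
    simp only [mul_left_comm (ω ^ (_ * l)), ← Finset.mul_sum, ← pow_add, ← mul_add]
    rw [sum_pow_mul hω]
    congr 1
    refine if_congr ⟨fun hd => ?_, fun hjl => ⟨1, by omega⟩⟩ rfl rfl
    obtain ⟨q, hq⟩ := hd
    have hlt : e * q < e * 2 := by omega
    have hq2 : q < 2 := Nat.lt_of_mul_lt_mul_left hlt
    interval_cases q <;> omega
  rw [expSum]
  rw [Finset.sum_congr rfl fun k (_ : k ∈ Finset.range e) => Finset.mul_sum _ _ (ω ^ (k * l)),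
    Finset.sum_comm, Finset.sum_congr rfl h]
  simp only [mul_ite, mul_zero, Finset.sum_ite_eq', Finset.mem_range, if_pos hl]
  have : (e : ℂ) ≠ 0 := Nat.cast_ne_zero.2 he
  field_simp

theorem expSum_congr {f g : ℕ → ℂ} (h : ∀ k < e, f k = g k) : expSum ω e f = expSum ω e g := by
  rw [expSum, expSum]
  refine congrArg _ (Finset.sum_congr rfl fun k hk => ?_)
  rw [h k (Finset.mem_range.1 hk)]

theorem expSum_add (f g : ℕ → ℂ) :
    expSum ω e (fun k => f k + g k) = expSum ω e f + expSum ω e g := by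
  simp only [expSum, add_mul, Finset.sum_add_distrib, mul_add]

theorem expSum_sub (f g : ℕ → ℂ) :
    expSum ω e (fun k => f k - g k) = expSum ω e f - expSum ω e g := by
  simp only [expSum, sub_mul, Finset.sum_sub_distrib, mul_sub]

theorem expSum_nsmul (a : ℂ) (f : ℕ → ℂ) :
    expSum ω e (fun k => a * f k) = a * expSum ω e f := by
  simp only [expSum, Finset.mul_sum]
  refine Finset.sum_congr rfl fun k _ => Finset.sum_congr rfl fun j _ => ?_
  ring

theorem expSum_sum {ι : Type*} (S : Finset ι) (f : ι → ℕ → ℂ) :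
    expSum ω e (fun k => ∑ i ∈ S, f i k) = ∑ i ∈ S, expSum ω e (f i) := by
  simp only [expSum, Finset.sum_mul]
  rw [Finset.sum_comm, Finset.mul_sum]

/-- The functional on a multiple of the regular part. -/
theorem expSum_regular (hω : IsPrimitiveRoot ω e) (he : e ≠ 0) (m : ℕ) :
    expSum ω e (fun k => if k = 0 then ((m * e : ℕ) : ℂ) else 0) =
      ((m * ∑ l ∈ Finset.range e, l : ℕ) : ℂ) := by
  rw [expSum_congr (g := fun k => (m : ℂ) * ∑ l ∈ Finset.range e, ω ^ (k * l)) fun k hk => ?_]
  · rw [expSum_nsmul, expSum_sum, Finset.sum_congr rfl fun l hl =>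
      expSum_single hω he (Finset.mem_range.1 hl)]
    push_cast
    rfl
  · simp only [mul_comm k, sum_pow_mul hω k]
    by_cases h0 : k = 0
    · subst h0; simp
    · rw [if_neg h0, if_neg fun hd => h0 (Nat.eq_zero_of_dvd_of_lt hd hk), mul_zero]

variable {G : Type u} [Group G]

/-- A character of a perfect group has exponent sum divisible by `e`. -/
theorem exists_int_expSum_character (hperf : commutator G = ⊤) (hω : IsPrimitiveRoot ω e)
    (he : e ≠ 0) {g : G} (hg : g ^ e = 1) {f : G → ℂ} (hf : Cfsg.IsCharacter G f) :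
    ∃ z : ℤ, expSum ω e (fun k => f (g ^ k)) = (e : ℂ) * z := by
  haveI : NeZero e := ⟨he⟩
  obtain ⟨n, ρ, rfl⟩ := hf
  obtain ⟨b, μ, hμ, hb⟩ := CfsgLib.Char.exists_eigenbasis_of_pow_eq_one (ρ g) he
    (by rw [← map_pow, hg, map_one])
  choose j hj hjμ using fun i => hω.eq_pow_of_pow_eq_one (hμ i)
  have hpow : ∀ k : ℕ, ρ.character (g ^ k) = ∑ i, ω ^ (k * j i) := by
    intro k
    refine CfsgLib.Char.trace_eq_sum_of_eigenbasis _ b _ fun i => ?_
    rw [map_pow]
    induction k with
    | zero => simp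
    | succ k ih =>
      rw [pow_succ', Module.End.mul_apply, ih, map_smul, hb, smul_smul, ← hjμ i, ← pow_add]
      congr 2
      ring
  have hdet : ∏ i, μ i = 1 := by
    have h1 : LinearMap.det (ρ g) = ∏ i, μ i := by
      rw [← LinearMap.det_toMatrix b]
      rw [show LinearMap.toMatrix b b (ρ g) = Matrix.diagonal μ from ?_, Matrix.det_diagonal]
      ext r c
      rw [LinearMap.toMatrix_apply, hb]
      rcases eq_or_ne c r with rfl | hcr
      · simp
      · simp [Finsupp.single_apply, hcr, Matrix.diagonal_apply_ne' _ hcr]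
    let δ : G →* ℂˣ := ((LinearMap.det : Module.End ℂ (Fin n → ℂ) →* ℂ).comp ρ).toHomUnits
    have h2 : δ g = 1 :=
      MonoidHom.mem_ker.1 (Abelianization.commutator_subset_ker δ (hperf ▸ Subgroup.mem_top g))
    rw [← h1]
    exact congrArg Units.val h2
  have hsum : e ∣ ∑ i, j i := by
    rw [← hω.pow_eq_one_iff_dvd, ← Finset.prod_pow_eq_pow_sum, Finset.prod_congr rfl fun i _ => hjμ i,
      hdet]
  obtain ⟨q, hq⟩ := hsum
  refine ⟨q, ?_⟩
  rw [expSum_congr fun k _ => hpow k, expSum_sum,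
    Finset.sum_congr rfl fun i _ => expSum_single hω he (hj i), ← Nat.cast_sum, hq]
  push_cast
  ring

/-- The same for generalised characters. -/
theorem exists_int_expSum (hperf : commutator G = ⊤) (hω : IsPrimitiveRoot ω e) (he : e ≠ 0)
    {g : G} (hg : g ^ e = 1) {f : G → ℂ} (hf : Cfsg.IsGeneralizedCharacter G f) :
    ∃ z : ℤ, expSum ω e (fun k => f (g ^ k)) = (e : ℂ) * z := by
  obtain ⟨f₁, f₂, h₁, h₂, rfl⟩ := hf
  obtain ⟨z₁, hz₁⟩ := exists_int_expSum_character hperf hω he hg h₁
  obtain ⟨z₂, hz₂⟩ := exists_int_expSum_character hperf hω he hg h₂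
  exact ⟨z₁ - z₂, by simp only [Pi.sub_apply, expSum_sub, hz₁, hz₂]; push_cast; ring⟩

theorem dvd_of_int_eq {a : ℕ} (h : ∃ z : ℤ, (a : ℂ) = (e : ℂ) * z) : e ∣ a := by
  obtain ⟨z, hz⟩ := h
  refine Int.natCast_dvd_natCast.1 ⟨z, ?_⟩
  exact_mod_cast hz

/-- If a generalised character takes the values of the exponents `l` plus `m` times the regular
character on the powers of `g`, the exponents add up to a multiple of `e`. -/
theorem dvd_exponents (hperf : commutator G = ⊤) (hω : IsPrimitiveRoot ω e) (he : e ≠ 0) {g : G}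
    (hg : g ^ e = 1) {f : G → ℂ} (hf : Cfsg.IsGeneralizedCharacter G f) (L : List ℕ)
    (hL : ∀ l ∈ L, l < e) (m : ℕ)
    (hval : ∀ k < e, f (g ^ k) =
      (L.map fun l => ω ^ (k * l)).sum + if k = 0 then ((m * e : ℕ) : ℂ) else 0) :
    e ∣ L.sum + m * ∑ l ∈ Finset.range e, l := by
  refine dvd_of_int_eq ?_
  obtain ⟨z, hz⟩ := exists_int_expSum hperf hω he hg hf
  refine ⟨z, ?_⟩
  rw [← hz, expSum_congr hval, expSum_add, expSum_regular hω he]
  suffices h : expSum ω e (fun k => (L.map fun l => ω ^ (k * l)).sum) = ((L.sum : ℕ) : ℂ) by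
    rw [h]; push_cast; rfl
  clear hval
  induction L with
  | nil => simp [expSum]
  | cons l L ih =>
    simp only [List.map_cons, List.sum_cons]
    rw [expSum_add, expSum_single hω he (hL l (List.mem_cons_self ..)),
      ih fun l' hl' => hL l' (List.mem_cons_of_mem _ hl')]
    push_cast
    rfl

end CfsgLib.UniqueDegreeP
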