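import Cfsg.Agent.Lib.DefectOne.SimpleLattice
import Cfsg.Agent.Lib.DefectOne.Master
import Cfsg.Agent.Lib.DefectOne.Principal
import Cfsg.Agent.Lib.UniqueDegreeP.ExpSum
import Mathlib.LinearAlgebra.Dual.Lemmas

/-!
# A modular representation from a rational character of degree `p + 1`

A lattice for the character is reduced; either the reduction or its contragredient has a vector in
the kernel of the norm, outside the image of `x - 1`, moved by `s` as `x` is.
-/

set_option autoImplicit false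
set_option linter.unusedSectionVars false

namespace CfsgLib.UniqueDegreeP

open Cfsg CfsgLib.DefectOne Matrix
open scoped Classical ComplexConjugate

universe u

variable {G : Type u} [Group G] [Finite G] {p : ℕ} [Fact p.Prime] {x : G}

/-- A rational character with value one on `P#` is afforded by a lattice. -/
theorem exists_rho (h : HypOne p x) (hV : regPart p x = ⊥) (ψ : IrrCharacter G)
    (hx1 : ∀ i, ¬ p ∣ i → (ψ : G → ℂ) (x ^ i) = 1) :
    ∃ (d : ℕ) (ρ : G →* Matrix (Fin d) (Fin d) (WR p)),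
      ∀ g, emb p (ρ g).trace = (ψ : G → ℂ) g := by
  have hp := h.prime
  have hfix : ∀ u : PConjugate.exponents p G, u • ψ = ψ := by
    intro u
    obtain ⟨w, hw⟩ := h.exists_unit_of_exponent u
    refine Subtype.ext (funext fun g => ?_)
    by_cases hg : p ∣ orderOf g
    · obtain ⟨c, i, v, hi, -, hc⟩ := h.exists_conj_singular hg
      have hv1 : (v : G) = 1 := Subgroup.mem_bot.1 (hV ▸ v.2)
      have e1 : ∀ φ : IrrCharacter G, (φ : G → ℂ) g = (φ : G → ℂ) (x ^ i * (v : G)) := fun φ => by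
        rw [← hc, CfsgLib.Char.IsIrrCharacter.isClassFunction φ.2]
      rw [e1, e1, h.smul_singular u ψ i v, hv1, mul_one, mul_one, hx1 i hi, hx1]
      intro hd
      rcases hp.dvd_mul.1 hd with h1 | h1
      · exact hi h1
      · rw [← ZMod.natCast_eq_zero_iff, hw] at h1
        exact w.ne_zero h1
    · exact h.smul_regular u ψ hg
  obtain ⟨d, ρ, m, hm0, hsupp, hval, hlocal⟩ := h.exists_lattice ψ
  refine ⟨d, ρ, fun g => ?_⟩
  have hsum : ∀ g, emb p (ρ g).trace = (m ψ : ℂ) * (ψ : G → ℂ) g := fun g => by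
    rw [hval g, Finset.sum_eq_single ψ (fun φ _ hne => ?_) (fun h0 => absurd (Finset.mem_univ _) h0)]
    rw [Nat.cast_eq_zero.2 ?_, zero_mul]
    by_contra hc
    obtain ⟨u, rfl⟩ := hsupp φ hc
    exact hne (hfix u)
  suffices hm : m ψ = 1 by rw [hsum, hm, Nat.cast_one, one_mul]
  haveI := Fintype.ofFinite (regPart p x)
  haveI : Subsingleton (regPart p x) := by rw [hV]; infer_instance
  have hsec : ∀ i ∈ Finset.Ico 1 p,
      secCoef p x (fun g => emb p (ρ g).trace) CfsgLib.Char.principalIrr i = (m ψ : ℂ) := by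
    intro i hi
    rw [secCoef, finsum_eq_single _ (1 : regPart p x) fun v hv => absurd (Subsingleton.elim v 1) hv,
      Nat.card_unique]
    simp only [Subgroup.coe_one, mul_one, hsum, CfsgLib.Char.principalIrr_apply, map_one,
      Nat.cast_one, inv_one, one_mul]
    rw [hx1 i fun hd => ?_, mul_one]
    obtain ⟨h1, h2⟩ := Finset.mem_Ico.1 hi
    have := Nat.le_of_dvd h1 hd
    omega
  have hp1 : ((p - 1 : ℕ) : ℂ) ≠ 0 := Nat.cast_ne_zero.2 (by have := hp.two_le; omega)
  rcases sum_secCoef_mem h ρ CfsgLib.Char.principalIrr hlocal with e | e | e <;>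
    rw [Finset.sum_congr rfl hsec, Finset.sum_const, Nat.card_Ico, nsmul_eq_mul] at e
  · exact absurd (Nat.cast_eq_zero.1 ((mul_eq_zero.1 e).resolve_left hp1)) hm0
  · exact Nat.cast_eq_one.1 (mul_left_cancel₀ hp1 (e.trans (mul_one _).symm))
  · exfalso
    have h1 : (m ψ : ℂ) = -1 := mul_left_cancel₀ hp1 (e.trans (by ring))
    have h2 : ((m ψ : ℤ) : ℂ) = ((-1 : ℤ) : ℂ) := by push_cast; exact h1
    have := Int.cast_injective (α := ℂ) h2
    omega

/-- A nonzero vector of a pure submodule has a multiple with nonzero reduction. -/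
theorem exists_red_ne_zero {n : Type} [Fintype n] (S : Submodule (WR p) (n → WR p))
    (hS : ∀ v, (p : WR p) • v ∈ S → v ∈ S) {y : n → WR p} (hy : y ∈ S) (hy0 : y ≠ 0) :
    ∃ v ∈ S, red (res p) v ≠ 0 := by
  obtain ⟨i, hi⟩ := Function.ne_iff.1 hy0
  rw [Pi.zero_apply] at hi
  suffices ∀ a : WR p, a ≠ 0 → ∀ v ∈ S, v i = a → ∃ w ∈ S, red (res p) w ≠ 0 from
    this _ hi y hy rfl
  intro a
  induction a using (wellFounded_dvdNotUnit (α := WR p)).induction with
  | _ a ih => ?_
  intro ha v hv hva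
  by_cases hr : red (res p) v = 0
  swap
  · exact ⟨v, hv, hr⟩
  choose w hw using fun l => (res_eq_zero p).1 (congrFun hr l)
  have hv' : v = (p : WR p) • w := funext hw
  have hw0 : w i ≠ 0 := fun h0 => ha (by rw [← hva, hw, h0, mul_zero])
  refine ih (w i) ⟨hw0, (p : WR p), fun hu => ?_, by rw [← hva, hw, mul_comm]⟩ hw0 w
    (hS w (hv' ▸ hv)) rfl
  have h1 := hu.map (res p)
  rw [res_natCast_p] at h1
  exact not_isUnit_zero h1

section Field

variable {k : Type*} [Field k] [CharP k p] {n : Type*} [Fintype n] [DecidableEq n]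

/-- Over characteristic `p` the norm is the `(p - 1)`-st power of `X - 1`. -/
theorem geom_eq_sub_one_pow (X : Matrix n n k) : geom p X = (X - 1) ^ (p - 1) := by
  have hp : p.Prime := Fact.out
  have hpoly : ∑ i ∈ Finset.range p, (Polynomial.X : Polynomial k) ^ i =
      (Polynomial.X - 1) ^ (p - 1) := by
    refine mul_right_cancel₀ (b := (Polynomial.X - 1 : Polynomial k))
      (by simpa using Polynomial.X_sub_C_ne_zero (1 : k)) ?_
    rw [geom_sum_mul, ← pow_succ, Nat.sub_add_cancel hp.one_le, sub_pow_char, one_pow]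
  simpa [geom, map_sum] using congrArg (Polynomial.aeval X) hpoly

/-- Two independent fixed vectors in the image of the norm need dimension `2 p`. -/
theorem two_mul_le_of_mem_range (X : Matrix n n k) {v w : n → k} (hv : X *ᵥ v = v)
    (hw : X *ᵥ w = w) (hind : LinearIndependent k ![v, w])
    (hvN : v ∈ (geom p X).mulVecLin.range) (hwN : w ∈ (geom p X).mulVecLin.range) :
    2 * p ≤ Fintype.card n := by
  have hp : p.Prime := Fact.out
  rw [geom_eq_sub_one_pow] at hvN hwN
  set R : ℕ → Submodule k (n → k) := fun j => ((X - 1) ^ j).mulVecLin.range with hR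
  have hanti : ∀ i j, i ≤ j → R j ≤ R i := by
    intro i j hij
    obtain ⟨q, rfl⟩ := Nat.exists_eq_add_of_le hij
    rintro _ ⟨u, rfl⟩
    exact ⟨((X - 1) ^ q) *ᵥ u, by simp [pow_add, Matrix.mulVec_mulVec]⟩
  have hstep : ∀ j ≤ p - 1, Module.finrank k (R (j + 1)) + 2 ≤ Module.finrank k (R j) := by
    intro j hj
    rw [← finrank_map_add_inf_ker (R j) (X - 1).mulVecLin]
    have h1 : (R j).map (X - 1).mulVecLin = R (j + 1) := by
      rw [hR]
      simp only [pow_succ', Matrix.mulVecLin_mul, LinearMap.range_comp]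
    have h2 : Submodule.span k (Set.range ![v, w]) ≤ R j ⊓ (X - 1).mulVecLin.ker := by
      rw [Submodule.span_le]
      rintro _ ⟨i, rfl⟩
      fin_cases i
      · exact ⟨hanti j _ hj hvN, by simp [Matrix.sub_mulVec, hv]⟩
      · exact ⟨hanti j _ hj hwN, by simp [Matrix.sub_mulVec, hw]⟩
    have h3 := Submodule.finrank_mono h2
    rw [finrank_span_eq_card hind, Fintype.card_fin] at h3
    rw [h1]
    omega
  have hall : ∀ i ≤ p, Module.finrank k (R i) + 2 * i ≤ Module.finrank k (R 0) := by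
    intro i hi
    induction i with
    | zero => simp
    | succ i ih =>
      have := hstep i (by omega)
      have := ih (by omega)
      omega
  have h0 : Module.finrank k (R 0) ≤ Fintype.card n :=
    (Submodule.finrank_le _).trans (Module.finrank_fintype_fun_eq_card k).le
  have := hall p le_rfl
  omega

end Field

section Eigen

variable {d : ℕ} (h : HypOne p x) (ρ : G →* Matrix (Fin d) (Fin d) (WR p))
include h

theorem geom_mulVec_fixed {y : Fin d → WR p} (hy : ρ x *ᵥ y = y) :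
    geom p (ρ x) *ᵥ y = (p : WR p) • y := by
  have h1 : ∀ i : ℕ, (ρ x ^ i) *ᵥ y = y := fun i => by
    induction i with
    | zero => simp
    | succ i ih => rw [pow_succ, ← Matrix.mulVec_mulVec, hy, ih]
  rw [geom, Matrix.sum_mulVec, Finset.sum_congr rfl fun i _ => h1 i, Finset.sum_const,
    Finset.card_range, Nat.cast_smul_eq_nsmul]

/-- The reduction of a fixed vector in the image of `x - 1` is in the image of the norm. -/
theorem red_mem_range_geom {y : Fin d → WR p} (hy : ρ x *ᵥ y = y)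
    (hr : red (res p) y ∈ ((res p).mapMatrix (ρ x) - 1).mulVecLin.range) :
    red (res p) y ∈ (geom p ((res p).mapMatrix (ρ x))).mulVecLin.range := by
  obtain ⟨z', hz'⟩ := hr
  obtain ⟨z, rfl⟩ := red_surjective (res p) z'
  have h0 : red (res p) (y - (ρ x - 1) *ᵥ z) = 0 := by
    rw [map_sub, red_mulVec, map_sub, map_one, ← hz', Matrix.mulVecLin_apply, sub_self]
  choose r hr using fun l => (res_eq_zero p).1
    (show res p (((y - (ρ x - 1) *ᵥ z) : Fin d → WR p) l) = 0 from congrFun h0 l)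
  have hy' : y = (ρ x - 1) *ᵥ z + (p : WR p) • r := by
    rw [show (p : WR p) • r = y - (ρ x - 1) *ᵥ z from (funext hr).symm, add_sub_cancel]
  have h1 : y = geom p (ρ x) *ᵥ r := by
    refine natCast_smul_cancel (natCast_p_ne_zero p) ?_
    rw [← geom_mulVec_fixed h ρ hy]
    conv_lhs => rw [hy']
    rw [Matrix.mulVec_add, Matrix.mulVec_mulVec, geom_mul_sub_one (rho_pow_p h ρ),
      Matrix.zero_mulVec, zero_add, Matrix.mulVec_smul]
  refine ⟨red (res p) r, ?_⟩
  rw [h1, red_mulVec, Matrix.mulVecLin_apply]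
  congr 1
  simp only [geom, map_sum, map_pow]

variable {s : G} {e c : ℕ}

/-- An eigenvector of `s` among the fixed vectors of `x`, with nonzero reduction. -/
theorem exists_fixed_eigen (hse : s ^ e = 1) (hs : s ∈ norm₁ x) {w : WR p} (hw : w ^ e = 1)
    {j : ℕ} (hj : j ≤ e)
    (htr : (∑ k ∈ Finset.range e,
      w ^ ((e - j) * k) • (geom p (ρ x) * ρ (s ^ k))).trace ≠ 0) :
    ∃ y : Fin d → WR p, ρ x *ᵥ y = y ∧ ρ s *ᵥ y = w ^ j • y ∧ red (res p) y ≠ 0 := by
  set Q := ∑ k ∈ Finset.range e, w ^ ((e - j) * k) • (geom p (ρ x) * ρ (s ^ k)) with hQ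
  have hQ0 : Q ≠ 0 := fun h0 => htr (by rw [h0, Matrix.trace_zero])
  have hXQ : ρ x * Q = Q := by
    rw [hQ, Finset.mul_sum]
    refine Finset.sum_congr rfl fun k _ => ?_
    rw [mul_smul_comm, ← mul_assoc]
    congr 2
    have := sub_one_mul_geom (rho_pow_p h ρ)
    rwa [sub_mul, one_mul, sub_eq_zero] at this
  have hsQ : ρ s * Q = w ^ j • Q := by
    set g : ℕ → Matrix (Fin d) (Fin d) (WR p) :=
      fun k => w ^ ((e - j) * k) • (geom p (ρ x) * ρ (s ^ k)) with hg
    have hshift : ∑ k ∈ Finset.range e, g (k + 1) = ∑ k ∈ Finset.range e, g k := by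
      have h1 := Finset.sum_range_succ g e
      rw [Finset.sum_range_succ'] at h1
      have h2 : g e = g 0 := by
        have h3 : w ^ ((e - j) * e) = 1 := by rw [mul_comm, pow_mul, hw, one_pow]
        simp only [hg, h3, mul_zero, pow_zero, hse, map_one]
      rw [h2] at h1
      exact add_right_cancel h1
    rw [hQ, Finset.mul_sum, ← hshift, Finset.smul_sum]
    refine Finset.sum_congr rfl fun k _ => ?_
    simp only [hg]
    rw [smul_smul, ← pow_add,
      show j + (e - j) * (k + 1) = (e - j) * k + e by rw [mul_add, mul_one]; omega,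
      pow_add, hw, mul_one, mul_smul_comm, ← mul_assoc, (commute_geom_norm h ρ hs).eq, mul_assoc,
      ← map_mul, ← pow_succ']
  obtain ⟨z, hz⟩ : ∃ z, Q *ᵥ z ≠ 0 := by
    by_contra hc
    push Not at hc
    exact hQ0 (Matrix.ext_of_mulVec_single fun i => by rw [hc, Matrix.zero_mulVec])
  let S : Submodule (WR p) (Fin d → WR p) :=
    (ρ x - 1).mulVecLin.ker ⊓ (ρ s - w ^ j • 1).mulVecLin.ker
  have hmem : ∀ v, v ∈ S ↔ ρ x *ᵥ v = v ∧ ρ s *ᵥ v = w ^ j • v := fun v => by
    simp only [S, Submodule.mem_inf, LinearMap.mem_ker, Matrix.mulVecLin_apply, Matrix.sub_mulVec,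
      Matrix.one_mulVec, Matrix.smul_mulVec, sub_eq_zero]
  obtain ⟨v, hv, hv0⟩ := exists_red_ne_zero S (fun v hv => by
    rw [hmem, Matrix.mulVec_smul, Matrix.mulVec_smul, smul_comm (w ^ j)] at hv
    exact (hmem v).2 ⟨natCast_smul_cancel (natCast_p_ne_zero p) hv.1,
      natCast_smul_cancel (natCast_p_ne_zero p) hv.2⟩)
    ((hmem _).2 ⟨by rw [Matrix.mulVec_mulVec, hXQ],
      by rw [Matrix.mulVec_mulVec, hsQ, Matrix.smul_mulVec]⟩) hz
  exact ⟨v, ((hmem v).1 hv).1, ((hmem v).1 hv).2, hv0⟩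

end Eigen

variable {s : G} {e c : ℕ} {H : Subgroup G}

/-- The reduction of a lattice, possibly dualised. -/
theorem exists_modular (h : HypOne p x) (hV : regPart p x = ⊥) (he3 : 3 ≤ e) (hep : ¬ p ∣ e)
    (hse : s ^ e = 1) (hconj : s * x * s⁻¹ = x ^ c)
    (hprim : ∀ k : ℕ, (c : ZMod p) ^ k = 1 ↔ e ∣ k)
    (hpsi : ∀ ω : ℂ, IsPrimitiveRoot ω e → ∃ ψ : IrrCharacter G, (ψ : G → ℂ) 1 = (p : ℂ) + 1 ∧
      (∀ i, ¬ p ∣ i → (ψ : G → ℂ) (x ^ i) = 1) ∧
      (∀ i k, ¬ e ∣ k → (ψ : G → ℂ) (x ^ i * s ^ k) = ω ^ k + ω ^ ((e - 1) * k)) ∧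
      ∑ᶠ h : H, (ψ : G → ℂ) h = 0 ∧ ∀ g, (ψ : G → ℂ) g⁻¹ = (ψ : G → ℂ) g)
    (hH : ¬ p ∣ Nat.card H) :
    ∃ τ : G →* Matrix (Fin (p + 1)) (Fin (p + 1)) (kbar p),
      (∀ g, (τ g⁻¹).trace = (τ g).trace) ∧
      (τ s).trace = (c : kbar p) + (c : kbar p) ^ (e - 1) ∧
      ∑ᶠ h : H, τ h = 0 ∧
      ∃ v, geom p (τ x) *ᵥ v = 0 ∧ v ∉ (τ x - 1).mulVecLin.range ∧
        τ s *ᵥ v = (c : kbar p) • v := by
  haveI := Fintype.ofFinite H
  have hp : p.Prime := Fact.out
  have hck : ∀ k : ℕ, (c : kbar p) ^ k = 1 ↔ e ∣ k := fun k => by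
    rw [← hprim k, ← Nat.cast_pow, ← Nat.cast_pow, ← Nat.cast_one (R := kbar p),
      CharP.natCast_eq_natCast (kbar p) p, ← ZMod.natCast_eq_natCast_iff, Nat.cast_one]
  have hsN : s ∈ norm₁ x := h.mem_norm_iff.2 ⟨c, fun hd => by
    have h1 := (hck e).2 dvd_rfl
    rw [(CharP.cast_eq_zero_iff (kbar p) p c).2 hd, zero_pow (by omega)] at h1
    exact zero_ne_one h1, hconj⟩
  set w : WR p := WittVector.teichmuller p (c : kbar p) with hw
  have hwres : res p w = (c : kbar p) := WittVector.teichmuller_coeff_zero p _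
  have hwprim : IsPrimitiveRoot w e := by
    refine IsPrimitiveRoot.map_of_injective (f := WittVector.teichmuller p)
      (IsPrimitiveRoot.mk_of_lt _ (by omega) ((hck e).2 dvd_rfl) fun l hl0 hle hl => ?_)
      fun a b hab => ?_
    · exact absurd (Nat.le_of_dvd hl0 ((hck l).1 hl)) (by omega)
    · have := congrArg (fun z : WR p => z.coeff 0) hab
      simpa [WittVector.teichmuller_coeff_zero] using this
  set ω : ℂ := emb p w with hω
  have hωprim : IsPrimitiveRoot ω e := hwprim.map_of_injective (emb_injective p)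
  obtain ⟨ψ, hψ1, hψx, hψs, hψH, hψreal⟩ := hpsi ω hωprim
  obtain ⟨d, ρ, hρ⟩ := exists_rho h hV ψ hψx
  obtain rfl : d = p + 1 := by
    have h1 := hρ 1
    rw [map_one, Matrix.trace_one, Fintype.card_fin, map_natCast, hψ1] at h1
    exact_mod_cast h1
  set σ : G →* Matrix (Fin (p + 1)) (Fin (p + 1)) (kbar p) :=
    (res p).mapMatrix.toMonoidHom.comp ρ with hσ
  have hσtr : ∀ g, (σ g).trace = res p (ρ g).trace := fun g => by
    show ((ρ g).map (res p)).trace = _
    simp [Matrix.trace, map_sum]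
  have hreal : ∀ g, (ρ g⁻¹).trace = (ρ g).trace := fun g =>
    emb_injective p (by rw [hρ, hρ, hψreal])
  have hσreal : ∀ g, (σ g⁻¹).trace = (σ g).trace := fun g => by rw [hσtr, hσtr, hreal]
  have hσs : (σ s).trace = (c : kbar p) + (c : kbar p) ^ (e - 1) := by
    have h1 : (ρ s).trace = w + w ^ (e - 1) := emb_injective p (by
      rw [hρ, map_add, map_pow]
      have h2 := hψs 0 1 (fun hd => by have := Nat.le_of_dvd one_pos hd; omega)
      simpa using h2)
    rw [hσtr, h1, map_add, map_pow, hwres]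
  -- the average over `H`
  set Q := ∑ l : H, ρ l with hQ
  have hQ0 : Q = 0 := by
    have hQQ : Q * Q = (Nat.card H : WR p) • Q := by
      rw [hQ, Finset.sum_mul, Nat.card_eq_fintype_card, Nat.cast_smul_eq_nsmul,
        ← Finset.card_univ, ← Finset.sum_const]
      refine Finset.sum_congr rfl fun l _ => ?_
      rw [Finset.mul_sum]
      exact Fintype.sum_equiv (Equiv.mulLeft l) _ _ fun l' => by
        rw [Equiv.coe_mulLeft, Subgroup.coe_mul, map_mul]
    have htr := trace_eq_mul_finrank Q _ hQQ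
    have htr0 : Q.trace = 0 := emb_injective p (by
      rw [hQ, Matrix.trace_sum, map_sum, map_zero]
      simp only [hρ]
      rw [← finsum_eq_sum_of_fintype]
      exact hψH)
    rw [htr0, eq_comm, mul_eq_zero,
      or_iff_right (Nat.cast_ne_zero.2 Nat.card_pos.ne'), Nat.cast_eq_zero,
      Submodule.finrank_eq_zero, LinearMap.range_eq_bot] at htr
    exact Matrix.toLin'.injective (by rw [Matrix.toLin'_apply', htr, map_zero])
  have hσH : ∑ᶠ l : H, σ l = 0 := by
    rw [finsum_eq_sum_of_fintype]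
    have := congrArg (res p).mapMatrix hQ0
    rwa [hQ, map_sum, map_zero] at this
  -- the two fixed eigenvectors
  have hgt : ∀ k, ¬ e ∣ k → emb p (geom p (ρ x) * ρ (s ^ k)).trace =
      (p : ℂ) * (ω ^ k + ω ^ ((e - 1) * k)) := fun k hk => by
    rw [geom, Finset.sum_mul, Matrix.trace_sum, map_sum, Finset.sum_congr rfl fun i _ => show
      emb p (ρ x ^ i * ρ (s ^ k)).trace = ω ^ k + ω ^ ((e - 1) * k) by
        rw [← map_pow, ← map_mul, hρ, hψs i k hk], Finset.sum_const, Finset.card_range,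
      nsmul_eq_mul]
  have hgt0 : emb p (geom p (ρ x)).trace = (p : ℂ) * 2 := by
    rw [geom, Matrix.trace_sum, map_sum,
      show Finset.range p = Finset.range (p - 1 + 1) by rw [Nat.sub_add_cancel hp.one_le],
      Finset.sum_range_succ',
      Finset.sum_congr rfl fun i hi => show emb p (ρ x ^ (i + 1)).trace = 1 by
        rw [← map_pow, hρ, hψx _ fun hd => absurd (Nat.le_of_dvd (Nat.succ_pos i) hd)
          (by have := Finset.mem_range.1 hi; omega)], ← map_pow, hρ, pow_zero, hψ1, Finset.sum_const,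
      Finset.card_range, nsmul_eq_mul, Nat.cast_sub hp.one_le]
    push_cast; ring
  have hex : ∀ j, (j = 1 ∨ j = e - 1) → ∃ y : Fin (p + 1) → WR p,
      ρ x *ᵥ y = y ∧ ρ s *ᵥ y = w ^ j • y ∧ red (res p) y ≠ 0 := by
    intro j hj
    refine exists_fixed_eigen h ρ hse hsN hwprim.pow_eq_one (by omega) fun h0 => ?_
    have h1 := congrArg (emb p) h0
    rw [Matrix.trace_sum, map_sum, map_zero, Finset.sum_congr rfl (g := fun k =>
      (p : ℂ) * (ω ^ (k * (e - j + 1)) + ω ^ (k * (e - j + (e - 1))))) fun k hk => ?_,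
      ← Finset.mul_sum, Finset.sum_add_distrib, sum_pow_mul hωprim, sum_pow_mul hωprim] at h1
    · refine absurd h1 (mul_ne_zero (Nat.cast_ne_zero.2 hp.ne_zero) ?_)
      have hnd : ∀ q, 0 < q → q < e → ¬ e ∣ q := fun q h1 h2 hd => by
        have := Nat.le_of_dvd h1 hd; omega
      rcases hj with rfl | rfl
      · rw [if_pos (by rw [Nat.sub_add_cancel (by omega : 1 ≤ e)]),
          if_neg (by
            rw [show e - 1 + (e - 1) = (e - 2) + e by omega, Nat.dvd_add_self_right]
            exact hnd _ (by omega) (by omega)), add_zero]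
        exact Nat.cast_ne_zero.2 (by omega)
      · rw [if_neg (by rw [show e - (e - 1) + 1 = 2 by omega]; exact hnd _ (by omega) (by omega)),
          if_pos (by rw [show e - (e - 1) + (e - 1) = e by omega]), zero_add]
        exact Nat.cast_ne_zero.2 (by omega)
    · rw [Matrix.trace_smul, smul_eq_mul, map_mul, map_pow, ← hω]
      by_cases hk0 : k = 0
      · subst hk0
        simp [hgt0]
        norm_num
      · rw [hgt k fun hd => hk0 (Nat.eq_zero_of_dvd_of_lt hd (Finset.mem_range.1 hk))]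
        rw [mul_add k (e - j) 1, mul_add k (e - j) (e - 1), pow_add, pow_add, mul_one,
          mul_comm k (e - j), mul_comm k (e - 1)]
        ring
  obtain ⟨y₁, hy₁x, hy₁s, hy₁⟩ := hex 1 (Or.inl rfl)
  obtain ⟨y₂, hy₂x, hy₂s, hy₂⟩ := hex (e - 1) (Or.inr rfl)
  have hred : ∀ {g : G} {y y' : Fin (p + 1) → WR p}, ρ g *ᵥ y = y' →
      σ g *ᵥ red (res p) y = red (res p) y' := fun hgy => by
    rw [← hgy, red_mulVec]; rfl
  have hv₁x := hred hy₁x
  have hv₂x := hred hy₂x
  have hv₁s : σ s *ᵥ red (res p) y₁ = (c : kbar p) • red (res p) y₁ := by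
    rw [hred hy₁s, pow_one, LinearMap.map_smulₛₗ, hwres]
  have hv₂s : σ s *ᵥ red (res p) y₂ = (c : kbar p) ^ (e - 1) • red (res p) y₂ := by
    rw [hred hy₂s, LinearMap.map_smulₛₗ, map_pow, hwres]
  have hc0 : (c : kbar p) ≠ 0 := fun h0 => by
    have h1 := (hck e).2 dvd_rfl
    rw [h0, zero_pow (by omega)] at h1
    exact zero_ne_one h1
  have hcne : (c : kbar p) ^ (e - 1) ≠ (c : kbar p) := fun h0 => by
    have h1 := congrArg (fun z : kbar p => z * (c : kbar p)) h0
    simp only [← pow_succ, Nat.sub_add_cancel (show 1 ≤ e by omega), (hck e).2 dvd_rfl, ← sq] at h1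
    have := Nat.le_of_dvd two_pos ((hck 2).1 h1.symm)
    omega
  have hind : LinearIndependent (kbar p) ![red (res p) y₁, red (res p) y₂] := by
    rw [LinearIndependent.pair_iff]
    intro a b hab
    have h1 := congrArg (fun v => σ s *ᵥ v) hab
    simp only [Matrix.mulVec_add, Matrix.mulVec_smul, hv₁s, hv₂s, Matrix.mulVec_zero, smul_smul] at h1
    have h2 : (b * ((c : kbar p) ^ (e - 1) - c)) • red (res p) y₂ = 0 := by
      have h3 := congrArg (fun v => (c : kbar p) • v) hab
      simp only [smul_add, smul_smul, smul_zero] at h3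
      rw [mul_sub, sub_smul, sub_eq_zero]
      have h4 := h1.trans h3.symm
      rw [mul_comm a, mul_comm (c : kbar p) b] at h4
      exact add_left_cancel h4
    rw [smul_eq_zero, or_iff_left hy₂, mul_eq_zero, or_iff_left (sub_ne_zero.2 hcne)] at h2
    rw [h2, zero_smul, add_zero, smul_eq_zero, or_iff_left hy₁] at hab
    exact ⟨hab, h2⟩
  have hgeomσ : geom p (σ x) = geom p ((res p).mapMatrix (ρ x)) := rfl
  have hgfix : ∀ v, σ x *ᵥ v = v → geom p (σ x) *ᵥ v = 0 := fun v hv => by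
    rw [geom_eq_sub_one_pow, show p - 1 = (p - 2) + 1 by have := hp.two_le; omega, pow_succ,
      ← Matrix.mulVec_mulVec, Matrix.sub_mulVec, hv, Matrix.one_mulVec, sub_self, Matrix.mulVec_zero]
  by_cases hcase : red (res p) y₁ ∈ (geom p (σ x)).mulVecLin.range
  swap
  · refine ⟨σ, hσreal, hσs, hσH, red (res p) y₁, hgfix _ hv₁x, fun hr => hcase ?_, hv₁s⟩
    exact red_mem_range_geom h ρ hy₁x hr
  have hv₂N : red (res p) y₂ ∉ (geom p (σ x)).mulVecLin.range := fun hc => by
    have := two_mul_le_of_mem_range (σ x) hv₁x hv₂x hind hcase hc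
    rw [Fintype.card_fin] at this
    have := hp.two_le
    omega
  set v := red (res p) y₂ with hv
  obtain ⟨f, hfv, hf0⟩ := Submodule.exists_dual_map_eq_bot_of_notMem hv₂N inferInstance
  set φ₀ : Fin (p + 1) → kbar p := fun i => f (Pi.single i 1) with hφ₀
  have hφdot : ∀ u, φ₀ ⬝ᵥ u = f u := fun u => by
    conv_rhs => rw [pi_eq_sum_univ' u]
    simp only [map_sum, map_smul, smul_eq_mul, dotProduct, hφ₀]
    exact Finset.sum_congr rfl fun i _ => mul_comm _ _
  have hφ₀N : φ₀ ᵥ* geom p (σ x) = 0 := by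
    funext i
    have h1 : φ₀ ⬝ᵥ (geom p (σ x) *ᵥ Pi.single i 1) = 0 := by
      rw [hφdot]
      have : f (geom p (σ x) *ᵥ Pi.single i 1) ∈ (geom p (σ x)).mulVecLin.range.map f :=
        ⟨_, ⟨Pi.single i 1, rfl⟩, rfl⟩
      rwa [hf0, Submodule.mem_bot] at this
    rw [Matrix.dotProduct_mulVec, dotProduct_single, mul_one] at h1
    exact h1
  have hcommN : ∀ k : ℕ, σ (s ^ k) * geom p (σ x) = geom p (σ x) * σ (s ^ k) := fun k => by
    have h1 := congrArg (res p).mapMatrix (commute_geom_norm h ρ (Subgroup.pow_mem _ hsN k)).eq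
    rw [map_mul, map_mul] at h1
    have h2 : (res p).mapMatrix (geom p (ρ x)) = geom p (σ x) := by
      simp only [geom, map_sum, map_pow]; rfl
    rw [h2] at h1
    exact h1
  set φ := ∑ k ∈ Finset.range e, (c : kbar p) ^ k • (φ₀ ᵥ* σ (s ^ k)) with hφ
  have hφN : φ ᵥ* geom p (σ x) = 0 := by
    rw [hφ, Matrix.sum_vecMul]
    refine Finset.sum_eq_zero fun k _ => ?_
    rw [Matrix.smul_vecMul, Matrix.vecMul_vecMul, hcommN, ← Matrix.vecMul_vecMul, hφ₀N,
      Matrix.zero_vecMul, smul_zero]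
  have hpow : ∀ k, σ (s ^ k) *ᵥ v = ((c : kbar p) ^ (e - 1)) ^ k • v := fun k => by
    induction k with
    | zero => simp
    | succ k ih => rw [pow_succ, map_mul, ← Matrix.mulVec_mulVec, hv₂s, Matrix.mulVec_smul, ih,
        smul_smul, pow_succ, mul_comm]
  have hφv : φ ⬝ᵥ v ≠ 0 := by
    rw [hφ, sum_dotProduct, Finset.sum_congr rfl (g := fun _ => f v) fun k _ => ?_,
      Finset.sum_const, Finset.card_range, nsmul_eq_mul]
    · refine mul_ne_zero (fun h0 => hep ((CharP.cast_eq_zero_iff (kbar p) p e).1 h0)) hfv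
    · rw [smul_dotProduct, ← Matrix.dotProduct_mulVec, hpow, dotProduct_smul, hφdot, smul_eq_mul,
        smul_eq_mul, ← mul_assoc, ← mul_pow, ← pow_succ', Nat.sub_add_cancel (by omega : 1 ≤ e),
        (hck e).2 dvd_rfl, one_pow, one_mul]
  let τ : G →* Matrix (Fin (p + 1)) (Fin (p + 1)) (kbar p) :=
    { toFun := fun g => (σ g⁻¹)ᵀ
      map_one' := by rw [inv_one, map_one, Matrix.transpose_one]
      map_mul' := fun a b => by rw [_root_.mul_inv_rev, map_mul, Matrix.transpose_mul] }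
  have hτ : ∀ g, τ g = (σ g⁻¹)ᵀ := fun g => rfl
  have hτφ : τ s *ᵥ φ = (c : kbar p) • φ := by
    rw [hτ, Matrix.mulVec_transpose, hφ, Matrix.sum_vecMul, Finset.smul_sum]
    set g : ℕ → (Fin (p + 1) → kbar p) := fun k => (c : kbar p) ^ k • (φ₀ ᵥ* σ (s ^ k * s⁻¹))
      with hg
    have h2 : g e = g 0 := by simp only [hg, hse, (hck e).2 dvd_rfl, pow_zero]
    have hshift : ∑ k ∈ Finset.range e, g (k + 1) = ∑ k ∈ Finset.range e, g k := by
      have h1 := Finset.sum_range_succ g e
      rw [Finset.sum_range_succ', h2] at h1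
      exact add_right_cancel h1
    rw [Finset.sum_congr rfl (g := g) fun k _ => by
      rw [hg, Matrix.smul_vecMul, Matrix.vecMul_vecMul, ← map_mul], ← hshift]
    refine Finset.sum_congr rfl fun k _ => ?_
    simp only [hg]
    rw [pow_succ s, mul_inv_cancel_right, smul_smul, pow_succ', mul_comm]
  have hinvp : (σ x⁻¹ - 1) ^ (p - 1) = (σ x - 1) ^ (p - 1) * (-σ x⁻¹) ^ (p - 1) := by
    have h1 : σ x * σ x⁻¹ = 1 := by rw [← map_mul, mul_inv_cancel, map_one]
    have h2 : σ x⁻¹ * σ x = 1 := by rw [← map_mul, inv_mul_cancel, map_one]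
    have hcm : Commute (σ x - 1) (-σ x⁻¹) :=
      (Commute.sub_left (show Commute (σ x) (σ x⁻¹) from h1.trans h2.symm)
        (Commute.one_left _)).neg_right
    rw [← hcm.mul_pow]
    congr 1
    rw [sub_mul, mul_neg, mul_neg, h1, one_mul, sub_neg_eq_add, neg_add_eq_sub]
  refine ⟨τ, fun g => ?_, ?_, ?_, φ, ?_, ?_, hτφ⟩
  · rw [hτ, hτ, Matrix.trace_transpose, Matrix.trace_transpose, inv_inv, hσreal]
  · rw [hτ, Matrix.trace_transpose, hσreal, hσs]
  · rw [finsum_eq_sum_of_fintype]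
    rw [finsum_eq_sum_of_fintype] at hσH
    simp only [hτ, ← Matrix.transpose_sum]
    rw [← Matrix.transpose_zero, ← hσH]
    congr 1
    exact Fintype.sum_equiv (Equiv.inv H) _ _ fun l => rfl
  · rw [geom_eq_sub_one_pow, hτ, ← Matrix.transpose_one, ← Matrix.transpose_sub,
      ← Matrix.transpose_pow, Matrix.mulVec_transpose, hinvp, ← geom_eq_sub_one_pow,
      ← Matrix.vecMul_vecMul, hφN, Matrix.zero_vecMul]
  · rintro ⟨u, hu⟩
    refine hφv ?_
    rw [← hu, Matrix.mulVecLin_apply, hτ, ← Matrix.transpose_one, ← Matrix.transpose_sub,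
      Matrix.mulVec_transpose, ← Matrix.dotProduct_mulVec, Matrix.sub_mulVec, Matrix.one_mulVec]
    have h1 : σ x⁻¹ *ᵥ v = v := by
      conv_lhs => rw [← hv₂x, Matrix.mulVec_mulVec, ← map_mul, inv_mul_cancel, map_one,
        Matrix.one_mulVec]
    rw [h1, sub_self, dotProduct_zero]

end CfsgLib.UniqueDegreeP
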