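import Cfsg.Agent.Lib.PSL2Sub.Classify
import Cfsg.Agent.Lib.PSL2Sub.Transfer
import Cfsg.Agent.Lib.PSL2Sub.PSL

/-!
# Simple subgroups of `PGL₂` of order divisible by the characteristic once
-/

set_option autoImplicit false

namespace CfsgLib.UniqueDegreeP

open Matrix CfsgLib.PSL2Sub
open scoped Classical

universe u w

variable {G : Type u} [Group G] [Finite G] [IsSimpleGroup G] {p : ℕ} [Fact p.Prime]
  {k : Type w} [Field k] [CharP k p] [IsAlgClosed k]

/-- A nonabelian simple group inside `PGL₂` of a field of characteristic `p`, of order divisible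
by `p` exactly once, is `PSL₂(p)`. -/
theorem nonempty_equiv_psl (h5 : 5 ≤ p) (hdiv : p ∣ Nat.card G) (hsq : ¬ p ^ 2 ∣ Nat.card G)
    (hnab : ¬ ∀ a b : G, a * b = b * a) (ψ : G →* PG k) (hψ : Function.Injective ψ) :
    Nonempty (G ≃* Matrix.ProjectiveSpecialLinearGroup (Fin 2) (ZMod p)) := by
  have hp : p.Prime := Fact.out
  set H := ψ.range
  haveI : Finite H := Finite.of_surjective ψ.rangeRestrict ψ.rangeRestrict_surjective
  let θ₀ : G ≃* H := MonoidHom.ofInjective hψ
  have hcard : Nat.card H = Nat.card G := (Nat.card_congr θ₀.toEquiv).symm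
  have hpdvd : p ∣ Nat.card H := hcard ▸ hdiv
  rcases classify p H with h | h | h | h | h | h | h
  · exact absurd hpdvd h.2.1
  · obtain ⟨A, hA2, -, hAp, -⟩ := h
    rw [← A.card_mul_index, hA2] at hpdvd
    rcases hp.dvd_mul.1 hpdvd with h' | h'
    · exact absurd h' hAp
    · have := Nat.le_of_dvd (by omega) h'; omega
  · exfalso
    obtain ⟨-, x, hx⟩ := h
    let U : Subgroup H := unip p H x
    have hU : ∀ h : H, h ∈ U ↔ (h : PG k) ^ p = 1 := fun h => by
      rw [mem_unip]
      exact ⟨fun h' => h'.2, fun h' => ⟨hx h, h'⟩⟩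
    have hN : (U.comap θ₀.toMonoidHom).Normal := ⟨fun y hy g => by
      rw [Subgroup.mem_comap, hU] at hy ⊢
      change (θ₀ y : PG k) ^ p = 1 at hy
      change (θ₀ (g * y * g⁻¹) : PG k) ^ p = 1
      rw [map_mul, map_mul, map_inv]
      push_cast
      rw [conj_pow, hy, mul_one, mul_inv_cancel]⟩
    obtain ⟨z, hz⟩ := exists_prime_orderOf_dvd_card' p hdiv
    have hzU : z ∈ U.comap θ₀.toMonoidHom := by
      rw [Subgroup.mem_comap, hU]
      change ψ z ^ p = 1
      rw [← map_pow, ← hz, pow_orderOf_eq_one, map_one]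
    rcases hN.eq_bot_or_eq_top with h0 | h0
    · rw [h0, Subgroup.mem_bot] at hzU
      rw [hzU, orderOf_one] at hz
      exact hp.ne_one hz.symm
    · have hall : ∀ g : G, g ^ p = 1 := fun g => hψ (by
        have : g ∈ U.comap θ₀.toMonoidHom := h0 ▸ Subgroup.mem_top g
        rw [Subgroup.mem_comap, hU] at this
        change ψ g ^ p = 1 at this
        rw [map_pow, this, map_one])
      have hpg : IsPGroup p G := fun g => ⟨1, by rw [pow_one]; exact hall g⟩
      obtain ⟨j, hj⟩ := hpg.exists_card_eq
      have hj1 : j ≤ 1 := by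
        by_contra hlt
        exact hsq (hj ▸ pow_dvd_pow p (show 2 ≤ j by omega))
      have hGp : Nat.card G = p := by
        rcases Nat.le_one_iff_eq_zero_or_eq_one.1 hj1 with h1 | h1
        · rw [hj, h1, pow_zero] at hdiv
          exact absurd (Nat.eq_one_of_dvd_one hdiv) hp.ne_one
        · rw [hj, h1, pow_one]
      haveI := isCyclic_of_prime_card hGp
      exact hnab fun a b => (IsCyclic.commGroup (α := G)).mul_comm a b
  · exact absurd hpdvd h.1
  · exact absurd hpdvd h.1
  · rcases h.1 with h' | h'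
    · exact absurd hpdvd h'
    · omega
  obtain ⟨g₀, E, hE, -, hcase⟩ := h
  haveI := hE
  letI : Fintype E := Fintype.ofFinite E
  haveI : CharP E p := inferInstance
  set f := Matrix.ProjGenLinGroup.map (n := Fin 2) E.subtype
  have hf : Function.Injective f := map_injective_pgl E.subtype
  set H' := H.map (MulAut.conj g₀⁻¹).toMonoidHom
  let eH : H ≃* H' := H.equivMapOfInjective _ (MulAut.conj g₀⁻¹).injective
  let θ : G ≃* H' := θ₀.trans eH
  set S' := (f.comp (toPG (K := E))).range with hS'
  have hS'eq : S' =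
      (f.comp (Matrix.SpecialLinearGroup.toPGL : Matrix.SpecialLinearGroup (Fin 2) E →* PG E)).range := by
    rw [hS', MonoidHom.range_comp, MonoidHom.range_comp, range_toPGL_eq]
  have htrans : ∀ b : E, f (aff 1 b) ∈ S' := fun b => by
    have hdet : (!![1, b; 0, 1] : Matrix (Fin 2) (Fin 2) E).det = 1 := by simp
    let T : Matrix.SpecialLinearGroup (Fin 2) E := ⟨!![1, b; 0, 1], hdet⟩
    rw [hS'eq, ← upper_eq T b rfl]
    exact ⟨T, rfl⟩
  have hH'S : H' = S' := by
    rcases hcase with hc | ⟨-, hc⟩
    · have hle : S' ≤ H' := by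
        rw [hc]
        rintro _ ⟨z, rfl⟩
        exact ⟨_, rfl⟩
      have hN : ((S'.subgroupOf H').comap θ.toMonoidHom).Normal := by
        have hn : (S'.subgroupOf H').Normal := ⟨fun a ha g => by
          rw [Subgroup.mem_subgroupOf] at ha ⊢
          obtain ⟨y, hy⟩ : (g : PG k) ∈ f.range := hc ▸ g.2
          obtain ⟨z, hz⟩ := hS'eq ▸ ha
          obtain ⟨z', hz'⟩ := (range_toPGL_normal E).conj_mem _ ⟨z, rfl⟩ y
          rw [hS'eq]
          refine ⟨z', ?_⟩
          push_cast
          rw [← hy, ← hz, MonoidHom.comp_apply, MonoidHom.comp_apply]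
          show f (Matrix.SpecialLinearGroup.toPGL z') = f y * f (Matrix.SpecialLinearGroup.toPGL z) * (f y)⁻¹
          exact (congrArg f hz').trans (by rw [map_mul, map_mul, map_inv])⟩
        exact hn.comap _
      rcases hN.eq_bot_or_eq_top with h0 | h0
      · exfalso
        have hmem : θ.symm ⟨f (aff 1 1), hle (htrans 1)⟩ ∈
            (S'.subgroupOf H').comap θ.toMonoidHom := by
          rw [Subgroup.mem_comap, Subgroup.mem_subgroupOf]
          change (θ (θ.symm _) : PG k) ∈ S'
          rw [MulEquiv.apply_symm_apply]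
          exact htrans 1
        rw [h0, Subgroup.mem_bot, MulEquiv.map_eq_one_iff] at hmem
        have h1 : aff (1 : Eˣ) (1 : E) = aff 1 0 := by
          rw [aff_one_zero]
          exact hf ((congrArg Subtype.val hmem).trans (map_one f).symm)
        exact one_ne_zero (aff_injective h1).2
      · refine le_antisymm (fun z hz => ?_) hle
        have : θ.symm ⟨z, hz⟩ ∈ (S'.subgroupOf H').comap θ.toMonoidHom := h0 ▸ Subgroup.mem_top _
        rw [Subgroup.mem_comap, Subgroup.mem_subgroupOf] at this
        change (θ (θ.symm _) : PG k) ∈ S' at this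
        rwa [MulEquiv.apply_symm_apply] at this
    · rw [hc, hS'eq]
  have hcardE : Nat.card E = p := by
    let τ : Multiplicative E →* H' := MonoidHom.mk' (fun b => ⟨f (aff 1 b.toAdd), hH'S ▸ htrans _⟩)
      (fun b c => Subtype.ext (by
        change f (aff 1 (b * c).toAdd) = f (aff 1 b.toAdd) * f (aff 1 c.toAdd)
        rw [← map_mul, aff_mul, one_mul, Units.val_one, one_mul, toAdd_mul, add_comm]))
    have hτ : Function.Injective τ := fun b c hbc => by
      have h1 : f (aff 1 b.toAdd) = f (aff 1 c.toAdd) := congrArg Subtype.val hbc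
      exact Multiplicative.toAdd.injective (aff_injective (hf h1)).2
    have h1 : Nat.card E ∣ Nat.card G := by
      have h2 := Subgroup.card_dvd_of_injective τ hτ
      rwa [show Nat.card (Multiplicative E) = Nat.card E from Nat.card_congr Multiplicative.toAdd,
        ← Nat.card_congr θ.toEquiv] at h2
    obtain ⟨m, hprime, hm⟩ := FiniteField.card E p
    rw [Nat.card_eq_fintype_card, hm] at h1 ⊢
    have : (m : ℕ) = 1 := by
      by_contra hne
      exact hsq ((pow_dvd_pow p (show 2 ≤ (m : ℕ) by have := m.pos; omega)).trans h1)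
    rw [this, pow_one]
  let φ : ZMod p ≃+* E := ZMod.ringEquiv E (by rw [← Nat.card_eq_fintype_card, hcardE])
  obtain ⟨eψ⟩ := nonempty_pslEquiv φ.symm
  exact ⟨θ.trans (((MulEquiv.subgroupCongr hH'S).trans
    (MonoidHom.ofInjective (f := f.comp (toPG (K := E))) (hf.comp toPG_injective)).symm).trans eψ)⟩

end CfsgLib.UniqueDegreeP
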