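import Cfsg.Agent.Lib.UniqueDegreeP.Psi
import Cfsg.Agent.Lib.UniqueDegreeP.Modular
import Cfsg.Agent.Lib.UniqueDegreeP.Embed
import Cfsg.Agent.Lib.UniqueDegreeP.Psl
import Cfsg.Agent.Lib.DegMinusValue.GroupPart
import Cfsg.Agent.Lib.CharTools.Basic
import Cfsg.Agent.Lib.Linear.Card
import Cfsg.Agent.Lib.PSL2Sub.Maximal
import Cfsg.Agent.S4706

/-!
# A unique character of degree `p` and a trivial-intersection complement: conclusion
-/

set_option autoImplicit false
set_option linter.unusedSectionVars false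

namespace CfsgLib.UniqueDegreeP

open MulAction Cfsg CfsgLib.DefectOne
open scoped Classical Pointwise

universe u

variable {α : Type u} [Fintype α] {p : ℕ} [Fact p.Prime]

/-- A unique character of degree `p` excludes solvable groups. -/
theorem not_isSolvable (hα : Fintype.card α = p) (G : Subgroup (Equiv.Perm α))
    [IsPretransitive G α] (χ : IrrCharacter G) (hχ : charDegree (χ : G → ℂ) = p)
    (P : Sylow p G) : ¬ Group.IsSolvable G := by
  intro hsol
  have hp : p.Prime := Fact.out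
  obtain ⟨a⟩ : Nonempty α := Fintype.card_pos_iff.1 (hα ▸ hp.pos)
  have hidx : (stabilizer G a).index = p := by
    rw [index_stabilizer_of_transitive, Nat.card_eq_fintype_card, hα]
  have hP := card_eq_of_sylow (hidx ▸ Subgroup.index_dvd_card _) (not_sq_dvd_card hα G) P
  have hn := CfsgLib.ItoPrimeDegree.normal_of_isSolvable hα hsol P hP
  obtain ⟨⟨x, hxP⟩, hxo⟩ := exists_prime_orderOf_dvd_card' p (dvd_of_eq hP.symm)
  rw [Subgroup.orderOf_mk] at hxo
  have hx1 : x ≠ 1 := fun h => by rw [h, orderOf_one] at hxo; exact hp.ne_one hxo.symm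
  obtain ⟨ε, hε⟩ := CfsgLib.Perm.exists_coords hα (g := (x : Equiv.Perm α))
    (by rw [← Subgroup.coe_pow, ← hxo, pow_orderOf_eq_one, Subgroup.coe_one])
    (fun h => hx1 (Subtype.ext h))
  -- the stabiliser injects into `P#`
  let f : stabilizer G a → {y : (P : Subgroup G) // y ≠ 1} := fun h =>
    ⟨⟨(h : G) * x * (h : G)⁻¹, hn.conj_mem x hxP h⟩, fun e1 => hx1 (by
      have := congrArg Subtype.val e1
      simpa using this)⟩
  have hf : Function.Injective f := by
    intro h h' hh
    have h1 : (h : G) * x * (h : G)⁻¹ = (h' : G) * x * (h' : G)⁻¹ :=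
      congrArg (fun y : {y : (P : Subgroup G) // y ≠ 1} => ((y : (P : Subgroup G)) : G)) hh
    set k := (h' : G)⁻¹ * (h : G) with hk
    have hkx : k * x = x * k := by
      have h2 := congrArg (fun y => (h' : G)⁻¹ * y * (h : G)) h1
      simpa [hk, mul_assoc] using h2
    have hka : k • a = a := mem_stabilizer_iff.1 (mul_mem (inv_mem h'.2) h.2)
    obtain ⟨j, hj⟩ := ε.surjective a
    have hall : ∀ n : ℕ, k • ε (j + n) = ε (j + n) := by
      intro n
      induction n with
      | zero => rw [Nat.cast_zero, add_zero, hj, hka]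
      | succ n ih =>
        rw [Nat.cast_succ, ← add_assoc, ← show x • ε (j + n) = ε (j + n + 1) from hε _, ← mul_smul,
          hkx, mul_smul, ih]
    have hk1 : k = 1 := Subtype.ext (Equiv.ext fun b => by
      obtain ⟨i, rfl⟩ := ε.surjective b
      have h3 := hall (i - j).val
      rw [ZMod.natCast_zmod_val, add_sub_cancel] at h3
      exact h3)
    exact Subtype.ext (inv_mul_eq_one.1 (hk ▸ hk1)).symm
  have hle : Nat.card (stabilizer G a) ≤ p - 1 := by
    refine (Nat.card_le_card_of_injective f hf).trans (le_of_eq ?_)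
    rw [Nat.card_eq_fintype_card, Fintype.card_subtype_compl, Fintype.card_subtype_eq,
      ← Nat.card_eq_fintype_card, hP]
  have hG : Nat.card G = Nat.card (stabilizer G a) * p := by
    rw [← hidx, Subgroup.card_mul_index]
  have h2 : p ^ 2 ≤ Nat.card G := by
    rw [← CfsgLib.CharTools.sum_degree_sq', ← hχ]
    exact Finset.single_le_sum (f := fun ψ : IrrCharacter G => charDegree (ψ : G → ℂ) ^ 2)
      (fun _ _ => Nat.zero_le _) (Finset.mem_univ χ)
  have := hp.pos
  rw [hG, sq] at h2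
  have := Nat.le_of_mul_le_mul_right h2 hp.pos
  omega

variable {G : Subgroup (Equiv.Perm α)} {x s : G} {a₀ : α} {e c : ℕ}

namespace Frame

variable (F : Frame G p x s a₀ e c)
include F

variable {χ : IrrCharacter G} (hχ : (χ : G → ℂ) 1 = (p : ℂ))
  (huniq : ∀ φ : IrrCharacter G, (φ : G → ℂ) 1 = (p : ℂ) → φ = χ) (T : TI s e)
include hχ huniq T

theorem not_comm : ¬ ∀ a b : G, a * b = b * a := fun h => F.nonsolvable
  (Group.isSolvable_of_comm h)

/-- The case `e ≥ 3`. -/
theorem equiv_of_three_le (h3 : 3 ≤ e) :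
    Nonempty (G ≃* Matrix.ProjectiveSpecialLinearGroup (Fin 2) (ZMod p)) := by
  have hp : p.Prime := Fact.out
  haveI := F.isSimpleGroup hχ huniq
  haveI := F.isPretransitive
  have hperf := F.isPerfect hχ huniq
  obtain ⟨ω₀, hω₀⟩ : ∃ ω : ℂ, IsPrimitiveRoot ω e := ⟨_, Complex.isPrimitiveRoot_exp e F.e_pos.ne'⟩
  obtain ⟨-, -, -, -, -, -, -, t, hts, htinv⟩ := F.exists_alpha hχ huniq T hω₀
  obtain ⟨τ, htr, hts', hH, v, hv0, hvR, hvs⟩ := exists_modular (H := stabilizer G a₀) (s := s)
    F.hyp F.regPart_eq_bot h3 F.not_dvd_e F.pow_e F.conj F.prim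
    (fun ω hω => by
      obtain ⟨ψ, h1, hx, hxs, hH, hr⟩ := F.exists_psi hχ huniq T h3 hω
      exact ⟨ψ, h1, hx, hxs, by rw [finsum_eq_sum_of_fintype]; convert hH, hr⟩)
    F.not_dvd_card_stabilizer
  obtain ⟨R, hRtr, hRs⟩ := F.exists_three_dim τ (by omega) hH htr hv0 hvR hvs
  -- an involution
  have hne : orderOf t ≠ 0 := (orderOf_pos t).ne'
  have heven : Even (orderOf t) := by
    by_contra hodd
    rw [Nat.not_even_iff_odd] at hodd
    obtain ⟨m, hm⟩ := hodd
    have hpow : ∀ n : ℕ, t ^ (2 * n) * s * (t ^ (2 * n))⁻¹ = s := by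
      intro n
      induction n with
      | zero => simp
      | succ n ih =>
        have h2 : t * (t * s * t⁻¹) * t⁻¹ = s := by
          rw [htinv, ← conj_inv, htinv, inv_inv]
        rw [show t ^ (2 * (n + 1)) * s * (t ^ (2 * (n + 1)))⁻¹ =
          t ^ (2 * n) * (t * (t * s * t⁻¹) * t⁻¹) * (t ^ (2 * n))⁻¹ by
            rw [mul_add, pow_add, mul_one, pow_two]; group, h2, ih]
    have h3' : t * s * t⁻¹ = s := by
      have h4 := hpow (m + 1)
      rwa [show 2 * (m + 1) = orderOf t + 1 by omega, pow_succ, pow_orderOf_eq_one, one_mul] at h4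
    rw [htinv, inv_eq_iff_mul_eq_one, ← sq] at h3'
    have := Nat.le_of_dvd two_pos (F.ord_s ▸ orderOf_dvd_of_pow_eq_one h3')
    omega
  obtain ⟨m, hm⟩ := heven
  have hj : t ^ m ≠ 1 := pow_ne_one_of_lt_orderOf (by omega) (by omega)
  have hj2 : t ^ m * t ^ m = 1 := by rw [← pow_add, ← hm, pow_orderOf_eq_one]
  have h5 := F.five_le
  have h2 : (2 : kbar p) ≠ 0 := fun h => by
    have h' : ((2 : ℕ) : kbar p) = 0 := by exact_mod_cast h
    have := Nat.le_of_dvd two_pos ((CharP.cast_eq_zero_iff (kbar p) p 2).1 h')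
    omega
  have hs3 : (R s).trace ≠ 3 := by
    intro hc
    rw [hRs, hts'] at hc
    -- `c + c⁻¹ = 2` forces `c = 1`
    have hce : (c : kbar p) ^ e = 1 := by
      have h1 : (((c ^ e : ℕ)) : ZMod p) = ((1 : ℕ) : ZMod p) := by
        push_cast
        exact (F.prim e).2 dvd_rfl
      rw [ZMod.natCast_eq_natCast_iff, ← CharP.natCast_eq_natCast (kbar p) p] at h1
      simpa using h1
    have hsq : ((c : kbar p) - 1) ^ 2 = 0 := by
      have h1 : (c : kbar p) * (c : kbar p) ^ (e - 1) = 1 := by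
        rw [← pow_succ', Nat.sub_add_cancel F.e_pos, hce]
      linear_combination (c : kbar p) * hc - h1
    have hc1 : ((c : ℕ) : kbar p) = ((1 : ℕ) : kbar p) := by
      rw [Nat.cast_one]
      exact sub_eq_zero.1 (eq_zero_of_pow_eq_zero hsq)
    rw [CharP.natCast_eq_natCast (kbar p) p, ← ZMod.natCast_eq_natCast_iff, Nat.cast_one] at hc1
    have := Nat.le_of_dvd one_pos ((F.prim 1).1 (by rw [pow_one, hc1]))
    omega
  obtain ⟨ψ, hψ⟩ := exists_hom_pg hperf h2 hj hj2 R hRtr hs3
  exact nonempty_equiv_psl h5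
    (F.hyp.orderOf_x ▸ orderOf_dvd_natCard x) (not_sq_dvd_card F.card_alpha G)
    (F.not_comm hχ huniq T) ψ hψ

/-- The case `e = 2`. -/
theorem eq_five_of_two [DecidableEq α] (h2e : e = 2) (P : Sylow p G)
    (hN : Nat.card (Subgroup.normalizer ((P : Subgroup G) : Set G)) = 2 * p) :
    p = 5 ∧ Nonempty (G ≃* Matrix.ProjectiveSpecialLinearGroup (Fin 2) (ZMod p)) := by
  have hp : p.Prime := Fact.out
  haveI := F.isSimpleGroup hχ huniq
  have h5 := F.five_le
  rcases Cfsg.Agent.S4706.result (by omega) F.card_alpha G P hN with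
    hn | ⟨a, K, iK, iKf, hpa, hK, ⟨Θ⟩⟩
  · exfalso
    rcases hn.eq_bot_or_eq_top with h0 | h0
    · have hP := card_eq_of_sylow (F.hyp.orderOf_x ▸ orderOf_dvd_natCard x)
        (not_sq_dvd_card F.card_alpha G) P
      rw [h0, Subgroup.card_bot] at hP
      omega
    · refine F.not_comm hχ huniq T ?_
      have hP := card_eq_of_sylow (F.hyp.orderOf_x ▸ orderOf_dvd_natCard x)
        (not_sq_dvd_card F.card_alpha G) P
      rw [h0, Subgroup.card_top] at hP
      haveI := isCyclic_of_prime_card hP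
      exact fun a b => (IsCyclic.commGroup (α := G)).mul_comm a b
  have hs2 : s * s = 1 := by
    have := F.pow_e
    rwa [h2e, pow_two] at this
  have hs1 : s ≠ 1 := fun h => by
    have := F.ord_s
    rw [h, orderOf_one] at this
    omega
  set M : Matrix (Fin 2) (Fin 2) K := (Θ s : Matrix (Fin 2) (Fin 2) K) with hM
  haveI : CharP K 2 := by
    obtain ⟨q, hq⟩ := CharP.exists K
    haveI := hq
    haveI : Fact q.Prime := ⟨CharP.char_is_prime K q⟩
    obtain ⟨n, hqp, hn⟩ := FiniteField.card K q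
    have ha : a ≠ 0 := fun h => by rw [h, pow_zero] at hpa; omega
    rw [hK] at hn
    have : q ∣ 2 := hqp.dvd_of_dvd_pow (hn ▸ dvd_pow_self q n.pos.ne')
    rwa [(Nat.prime_dvd_prime_iff_eq hqp Nat.prime_two).1 this] at hq
  have hMM : M * M = 1 := by
    rw [hM, ← Matrix.SpecialLinearGroup.coe_mul, ← map_mul, hs2, map_one,
      Matrix.SpecialLinearGroup.coe_one]
  have hdet : M.det = 1 := (Θ s).2
  set N : Matrix (Fin 2) (Fin 2) K := M + 1 with hN'
  have htwo : (2 : K) = 0 := CharTwo.two_eq_zero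
  have hNN : N * N = 0 := by
    rw [hN', mul_add, add_mul, add_mul, hMM]
    simp only [mul_one, one_mul]
    rw [add_assoc]
    rw [show (1 : Matrix (Fin 2) (Fin 2) K) + (M + (M + 1)) = (2 : K) • M + (2 : K) • 1 by
      rw [two_smul, two_smul]; abel, htwo, zero_smul, zero_smul, add_zero]
  have hN0 : N ≠ 0 := fun h0 => hs1 (Θ.injective (by
    rw [map_one]
    refine Subtype.ext ?_
    show M = 1
    rw [hN', add_eq_zero_iff_eq_neg] at h0
    rw [h0]
    ext r c
    simp [CharTwo.neg_eq]))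
  have hdN : ∀ b : K, (1 + b • N).det = 1 := by
    intro b
    have h1 : (b • N) * (b • N) = 0 := by rw [smul_mul_smul_comm, hNN, smul_zero]
    have h2 : (1 + b • N) * (1 + b • N) = 1 := by
      rw [mul_add, add_mul, add_mul, h1]
      simp only [mul_one, one_mul]
      rw [add_zero, add_assoc, ← two_smul K (b • N), htwo, zero_smul, add_zero]
    have h3 := congrArg Matrix.det h2
    rw [Matrix.det_mul, Matrix.det_one] at h3
    rcases mul_self_eq_one_iff.1 h3 with h4 | h4
    · exact h4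
    · rw [h4, CharTwo.neg_eq]
  let φ : K → Subgroup.centralizer ({s} : Set G) := fun b =>
    ⟨Θ.symm (⟨1 + b • N, hdN b⟩ : Matrix.SpecialLinearGroup (Fin 2) K), by
      rw [Subgroup.mem_centralizer_singleton_iff]
      apply Θ.injective
      rw [map_mul, map_mul]
      erw [MulEquiv.apply_symm_apply]
      refine Subtype.ext ?_
      show (1 + b • N) * M = M * (1 + b • N)
      rw [show M = N + 1 by rw [hN', add_assoc, ← two_smul K (1 : Matrix (Fin 2) (Fin 2) K), htwo,
        zero_smul, add_zero]]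
      simp only [mul_add, add_mul, smul_mul_assoc, mul_smul_comm, one_mul, mul_one, hNN, smul_zero]
      abel⟩
  have hφ : Function.Injective φ := fun b b' hb => by
    have h1 := congrArg (fun y : Subgroup.centralizer ({s} : Set G) => Θ (y : G)) hb
    simp only [φ] at h1
    erw [MulEquiv.apply_symm_apply, MulEquiv.apply_symm_apply] at h1
    have h2 : (b - b') • N = 0 := by
      rw [sub_smul, sub_eq_zero]
      exact add_left_cancel (congrArg Subtype.val h1)
    exact sub_eq_zero.1 ((smul_eq_zero.1 h2).resolve_right hN0)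
  have hq4 : 2 ^ a ≤ 4 := by
    have h1 := Nat.card_le_card_of_injective φ hφ
    rw [Nat.card_eq_fintype_card, hK] at h1
    have hle : Subgroup.centralizer ({s} : Set G) ≤
        Subgroup.normalizer (Subgroup.zpowers s : Set G) := fun g hg => by
      refine T.ti 1 (fun h => by have := Nat.le_of_dvd one_pos h; omega) g ?_
      rw [Subgroup.mem_centralizer_singleton_iff] at hg
      rw [pow_one, hg, mul_inv_cancel_right]
      exact Subgroup.mem_zpowers s
    have h2 := Nat.card_le_card_of_injective _ (Subgroup.inclusion_injective hle)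
    rw [T.card_norm, h2e] at h2
    exact (le_of_eq rfl).trans ((h1.trans h2).trans (by norm_num))
  have hp5 : p = 5 := by
    have := hp.eq_two_or_odd
    omega
  refine ⟨hp5, ?_⟩
  subst hp5
  have hq : Fintype.card K = 4 := by omega
  have h60 : Nat.card G = 60 := by
    rw [Nat.card_congr Θ.toEquiv, CfsgLib.Linear.card_SL_two, hq]
    norm_num
  exact CfsgLib.DegMinusValue.psl25_iso h60

end Frame

/-- `PSL₂(p)` has a subgroup of index `p` only for `p ≤ 11`. -/
theorem prime_of_equiv (hα : Fintype.card α = p) (h5 : 5 ≤ p) [IsPretransitive G α]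
    (Θ : G ≃* Matrix.ProjectiveSpecialLinearGroup (Fin 2) (ZMod p)) :
    p = 5 ∨ p = 7 ∨ p = 11 := by
  have hp : p.Prime := Fact.out
  by_contra hc
  obtain ⟨a⟩ : Nonempty α := Fintype.card_pos_iff.1 (hα ▸ hp.pos)
  have hidx : ((stabilizer G a).map Θ.toMonoidHom).index = p := by
    rw [Subgroup.index_map_of_bijective Θ.bijective, index_stabilizer_of_transitive,
      Nat.card_eq_fintype_card, hα]
  have hq : Fintype.card (ZMod p) ∉ ({2, 3, 5, 7, 9, 11} : Finset ℕ) := by
    rw [ZMod.card]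
    simp only [Finset.mem_insert, Finset.mem_singleton]
    rintro (h | h | h | h | h | h)
    · omega
    · omega
    · omega
    · omega
    · rw [h] at hp; norm_num at hp
    · omega
  have h1 := CfsgLib.PSL2Sub.min_index hq ((stabilizer G a).map Θ.toMonoidHom) fun h => by
    rw [h, Subgroup.index_top] at hidx
    omega
  rw [ZMod.card] at h1
  omega

/-- The theorem. -/
theorem main [DecidableEq α] (hα : Fintype.card α = p) (G : Subgroup (Equiv.Perm α))
    [IsPretransitive G α]
    (huniq : ∃! χ : Cfsg.IrrCharacter G, Cfsg.charDegree (χ : G → ℂ) = p) (P : Sylow p G)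
    (E : Subgroup G) (hPE : (P : Subgroup G) ⊔ E = Subgroup.normalizer ((P : Subgroup G) : Set G))
    (hPE' : (P : Subgroup G) ⊓ E = ⊥)
    (hNE : Nat.card (Subgroup.normalizer (E : Set G)) = 2 * Nat.card E)
    (hTI : ∀ g : G, g ∉ Subgroup.normalizer (E : Set G) →
      E ⊓ E.map (MulAut.conj g).toMonoidHom = ⊥) :
    (p = 5 ∨ p = 7 ∨ p = 11) ∧
      Nonempty (G ≃* Matrix.ProjectiveSpecialLinearGroup (Fin 2) (ZMod p)) := by
  obtain ⟨χ, hχ, hu⟩ := huniq
  obtain ⟨x, s, a₀, e, c, F, hE, hEc, hPx⟩ :=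
    exists_frame hα G (not_isSolvable hα G χ hχ P) P E hPE hPE'
  have hχ1 : (χ : G → ℂ) 1 = (p : ℂ) := by rw [← CfsgLib.CharTools.irr_degree_cast, hχ]
  have hu1 : ∀ φ : IrrCharacter G, (φ : G → ℂ) 1 = (p : ℂ) → φ = χ := fun φ hφ =>
    hu φ (by rw [← CfsgLib.CharTools.irr_degree_cast] at hφ; exact_mod_cast hφ)
  subst hE
  rw [hEc] at hNE
  have T : TI s e := ⟨hNE, fun k hk g hg => by
    by_contra hn
    have h1 : g * s ^ k * g⁻¹ ∈ Subgroup.zpowers s ⊓
        (Subgroup.zpowers s).map (MulAut.conj g).toMonoidHom :=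
      ⟨hg, ⟨s ^ k, pow_mem (Subgroup.mem_zpowers s) k, rfl⟩⟩
    rw [hTI g hn, Subgroup.mem_bot, conj_eq_one_iff] at h1
    exact hk (F.ord_s ▸ orderOf_dvd_of_pow_eq_one h1)⟩
  have hiso : Nonempty (G ≃* Matrix.ProjectiveSpecialLinearGroup (Fin 2) (ZMod p)) := by
    have he := F.one_lt_e hχ1 hu1
    rcases Nat.lt_or_ge e 3 with h | h
    · have h2 : e = 2 := by omega
      refine (F.eq_five_of_two hχ1 hu1 T h2 P ?_).2
      have hnorm : Subgroup.zpowers s ≤ Subgroup.normalizer ((P : Subgroup G) : Set G) :=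
        hPE ▸ le_sup_right
      let f : ↥(P : Subgroup G) × ↥(Subgroup.zpowers s) →
          ↥((P : Subgroup G) ⊔ Subgroup.zpowers s) :=
        fun q => ⟨(q.1 : G) * (q.2 : G),
          mul_mem (Subgroup.mem_sup_left q.1.2) (Subgroup.mem_sup_right q.2.2)⟩
      have hf : Function.Bijective f := ⟨fun q q' hq =>
        Subgroup.mul_injective_of_disjoint (disjoint_iff.2 hPE') (congrArg Subtype.val hq),
        fun ⟨g, hg⟩ => by
          obtain ⟨y, hy, z, hz, hyz⟩ := Set.mem_mul.1
            ((Subgroup.coe_mul_of_right_le_normalizer_left (P : Subgroup G) _ hnorm).symm ▸ hg :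
              g ∈ ((P : Subgroup G) : Set G) * (Subgroup.zpowers s : Set G))
          exact ⟨(⟨y, hy⟩, ⟨z, hz⟩), Subtype.ext hyz⟩⟩
      rw [← hPE, ← Nat.card_congr (Equiv.ofBijective f hf), Nat.card_prod, hEc, h2, hPx,
        F.hyp.card_zpowers, mul_comm]
    · exact F.equiv_of_three_le hχ1 hu1 T h
  obtain ⟨Θ⟩ := hiso
  exact ⟨prime_of_equiv hα F.five_le Θ, ⟨Θ⟩⟩

end CfsgLib.UniqueDegreeP
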