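import Cfsg.Agent.Lib.UniqueDegreeP.Simple
import Cfsg.Agent.Lib.Char.Exceptional
import Cfsg.Agent.Lib.Char.Induced
import Mathlib.GroupTheory.SpecificGroups.Cyclic

/-!
# The character of degree `p + 1` attached to the trivial-intersection complement
-/

set_option autoImplicit false
set_option linter.unusedSectionVars false

namespace CfsgLib.UniqueDegreeP

open MulAction CfsgLib.DefectOne Cfsg
open scoped Classical ComplexConjugate

universe u

variable {α : Type u} [Fintype α] {p : ℕ} [Fact p.Prime]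
  {G : Subgroup (Equiv.Perm α)} {x s : G} {a₀ : α} {e c : ℕ}

/-- The hypotheses on the complement: trivial intersection and index two in its normaliser. -/
structure TI (s : G) (e : ℕ) : Prop where
  card_norm : Nat.card (Subgroup.normalizer (Subgroup.zpowers s : Set G)) = 2 * e
  ti : ∀ k, ¬ e ∣ k → ∀ g : G, g * s ^ k * g⁻¹ ∈ Subgroup.zpowers s →
    g ∈ Subgroup.normalizer (Subgroup.zpowers s : Set G)

namespace Frame

variable (F : Frame G p x s a₀ e c)
include F

theorem pow_e : s ^ e = 1 := by rw [← F.ord_s, pow_orderOf_eq_one]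

theorem sum_zpowers (f : G → ℂ) :
    ∑ v : Subgroup.zpowers s, f v = ∑ k ∈ Finset.range e, f (s ^ k) := by
  rw [← Fin.sum_univ_eq_sum_range (fun k => f (s ^ k)) e, ← F.ord_s]
  exact (Fintype.sum_equiv (finEquivZPowers (isOfFinOrder_of_finite s)) _ _ fun i => rfl).symm

theorem card_zpowers_s : Nat.card (Subgroup.zpowers s) = e := by
  rw [Nat.card_zpowers, F.ord_s]

theorem coe_degree : (p : ℂ) = 1 + (((p - 1) / e * e : ℕ) : ℂ) := by
  have h1 : p = 1 + (p - 1) / e * e := by
    rw [Nat.div_mul_cancel F.dvd]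
    have := (Fact.out : p.Prime).one_le
    omega
  exact_mod_cast congrArg (Nat.cast : ℕ → ℂ) h1

theorem exists_outer (T : TI s e) :
    ∃ t ∈ Subgroup.normalizer (Subgroup.zpowers s : Set G), t ∉ Subgroup.zpowers s ∧
      ∀ y ∈ Subgroup.normalizer (Subgroup.zpowers s : Set G),
        y ∈ Subgroup.zpowers s ∨ t⁻¹ * y ∈ Subgroup.zpowers s := by
  set M := Subgroup.normalizer (Subgroup.zpowers s : Set G)
  have hle : Subgroup.zpowers s ≤ M := Subgroup.le_normalizer
  have hidx : ((Subgroup.zpowers s).subgroupOf M).index = 2 := by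
    have h1 := Subgroup.card_mul_index ((Subgroup.zpowers s).subgroupOf M)
    rw [Nat.card_congr (Subgroup.subgroupOfEquivOfLe hle).toEquiv, F.card_zpowers_s, T.card_norm,
      mul_comm 2 e] at h1
    exact Nat.eq_of_mul_eq_mul_left F.e_pos h1
  obtain ⟨t, ht⟩ : ∃ t : M, t ∉ (Subgroup.zpowers s).subgroupOf M := by
    by_contra h
    push Not at h
    rw [show (Subgroup.zpowers s).subgroupOf M = ⊤ from eq_top_iff.2 fun v _ => h v,
      Subgroup.index_top] at hidx
    omega
  refine ⟨t, t.2, fun h => ht h, fun y hy => or_iff_not_imp_left.2 fun hy' => ?_⟩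
  have h2 := (Subgroup.mul_mem_iff_of_index_two hidx (a := t⁻¹) (b := ⟨y, hy⟩)).2
    ⟨fun h => absurd ((inv_mem_iff).1 h) ht, fun h => absurd h hy'⟩
  exact h2

variable {χ : IrrCharacter G} (hχ : (χ : G → ℂ) 1 = (p : ℂ))
  (huniq : ∀ φ : IrrCharacter G, (φ : G → ℂ) 1 = (p : ℂ) → φ = χ) (T : TI s e)
include hχ huniq T

/-- The class function `Ind (μ - 1)`, its values and the inversion of the complement. -/
theorem exists_alpha {ω : ℂ} (hω : IsPrimitiveRoot ω e) :
    ∃ A : G → ℂ, Cfsg.IsGeneralizedCharacter G A ∧ Cfsg.IsClassFunction G A ∧ A 1 = 0 ∧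
      (∀ g, (∀ d : G, d⁻¹ * g * d ∉ Subgroup.zpowers s) → A g = 0) ∧
      (∀ k, ¬ e ∣ k → A (s ^ k) = ω ^ k + ω ^ ((e - 1) * k) - 2) ∧
      (∀ f : G → ℂ, Cfsg.IsClassFunction G f → Cfsg.classInner A f =
        (e : ℂ)⁻¹ * ∑ k ∈ Finset.range e, (ω ^ k - 1) * conj (f (s ^ k))) ∧
      ∃ t : G, t ∉ Subgroup.zpowers s ∧ t * s * t⁻¹ = s⁻¹ := by
  have he : e ≠ 0 := F.e_pos.ne'
  have hgen : ∀ v : Subgroup.zpowers s,
      v ∈ Subgroup.zpowers (⟨s, Subgroup.mem_zpowers s⟩ : Subgroup.zpowers s) := fun v => by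
    obtain ⟨n, hn⟩ := Subgroup.mem_zpowers_iff.1 v.2
    exact Subgroup.mem_zpowers_iff.2 ⟨n, Subtype.ext (by rw [SubgroupClass.coe_zpow]; exact hn)⟩
  set u : ℂˣ := (hω.isUnit he).unit with hu
  have hdvd : orderOf u ∣ orderOf (⟨s, Subgroup.mem_zpowers s⟩ : Subgroup.zpowers s) := by
    rw [Subgroup.orderOf_mk, F.ord_s]
    exact orderOf_dvd_of_pow_eq_one (Units.ext (by simp [hu, hω.pow_eq_one]))
  set μ : Subgroup.zpowers s →* ℂˣ := monoidHomOfForallMemZpowers hgen hdvd
  have hμs : ∀ k, (μ ⟨s ^ k, Subgroup.pow_mem _ (Subgroup.mem_zpowers s) k⟩ : ℂ) = ω ^ k := fun k => by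
    rw [show (⟨s ^ k, _⟩ : Subgroup.zpowers s) = ⟨s, Subgroup.mem_zpowers s⟩ ^ k from Subtype.ext rfl,
      map_pow, monoidHomOfForallMemZpowers_apply_gen, Units.val_pow_eq_pow_val]
    rfl
  set θ : Subgroup.zpowers s → ℂ := fun v => (μ v : ℂ) - 1 with hθ
  set A : G → ℂ := Cfsg.indFun (Subgroup.zpowers s) θ with hA
  have hAgen : Cfsg.IsGeneralizedCharacter G A := by
    refine CfsgLib.Char.IsGeneralizedCharacter.indFun _ ⟨_, _,
      CfsgLib.Char.IsIrrCharacter.isCharacter (CfsgLib.Char.isIrrCharacter_monoidHom μ),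
      CfsgLib.Char.isCharacter_one, rfl⟩
  have hA1 : A 1 = 0 := by
    rw [hA, CfsgLib.Char.indFun_apply_one, hθ]
    simp
  obtain ⟨t, htM, htE, htcov⟩ := F.exists_outer T
  -- conjugation by `t` on the complement
  obtain ⟨a, ha⟩ : ∃ a : ℕ, t⁻¹ * s * t = s ^ a := by
    have h1 : t⁻¹ * s * t ∈ Subgroup.zpowers s := by
      have := (Subgroup.mem_normalizer_iff.1 (inv_mem htM) s).1 (Subgroup.mem_zpowers s)
      rwa [inv_inv] at this
    obtain ⟨a, -, ha⟩ := Finset.mem_image.1
      ((isOfFinOrder_of_finite s).mem_zpowers_iff_mem_range_orderOf.1 h1)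
    exact ⟨a, ha.symm⟩
  have hta : ∀ k, t⁻¹ * s ^ k * t = s ^ (a * k) := fun k => by
    rw [pow_mul, ← ha]
    have := conj_pow (a := t⁻¹) (b := s) (i := k)
    rw [inv_inv] at this
    exact this.symm
  have hAk : ∀ k, ¬ e ∣ k → A (s ^ k) = ω ^ k + ω ^ (a * k) - 2 := by
    intro k hk
    set j : Subgroup.zpowers s ⊕ Subgroup.zpowers s → G :=
      Sum.elim (fun v => (v : G)) (fun v => t * (v : G)) with hj
    have hjinj : Function.Injective j := by
      rintro (v | v) (w | w) h
      · exact congrArg Sum.inl (Subtype.ext h)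
      · exfalso
        refine htE ?_
        have h' : (v : G) = t * (w : G) := h
        rw [show t = (v : G) * (w : G)⁻¹ by rw [h', mul_inv_cancel_right]]
        exact mul_mem v.2 (inv_mem w.2)
      · exfalso
        refine htE ?_
        have h' : t * (v : G) = (w : G) := h
        rw [show t = (w : G) * (v : G)⁻¹ by rw [← h', mul_inv_cancel_right]]
        exact mul_mem w.2 (inv_mem v.2)
      · exact congrArg Sum.inr (Subtype.ext (mul_left_cancel h))
    rw [hA, CfsgLib.Char.indFun_apply, F.card_zpowers_s,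
      ← Fintype.sum_of_injective j hjinj
        (fun q => Cfsg.extendByZero (Subgroup.zpowers s) θ ((j q)⁻¹ * s ^ k * j q)) _ ?_ fun _ => rfl,
      Fintype.sum_sum_type]
    · have h1 : ∀ v : Subgroup.zpowers s,
          Cfsg.extendByZero (Subgroup.zpowers s) θ ((j (Sum.inl v))⁻¹ * s ^ k * j (Sum.inl v)) =
            ω ^ k - 1 := fun v => by
        obtain ⟨n, hn⟩ := Subgroup.mem_zpowers_iff.1 v.2
        have hcomm : (j (Sum.inl v))⁻¹ * s ^ k * j (Sum.inl v) = s ^ k := by
          show ((v : G))⁻¹ * s ^ k * (v : G) = s ^ k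
          rw [mul_assoc, ← hn, ((Commute.refl s).pow_left k).zpow_right n |>.eq, inv_mul_cancel_left]
        rw [hcomm, CfsgLib.Char.extendByZero_apply_mem _ _ (Subgroup.pow_mem _ (Subgroup.mem_zpowers s) k),
          hθ]
        simp only [hμs]
      have h2 : ∀ v : Subgroup.zpowers s,
          Cfsg.extendByZero (Subgroup.zpowers s) θ ((j (Sum.inr v))⁻¹ * s ^ k * j (Sum.inr v)) =
            ω ^ (a * k) - 1 := fun v => by
        obtain ⟨n, hn⟩ := Subgroup.mem_zpowers_iff.1 v.2
        have hcomm : (j (Sum.inr v))⁻¹ * s ^ k * j (Sum.inr v) = s ^ (a * k) := by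
          show (t * (v : G))⁻¹ * s ^ k * (t * (v : G)) = s ^ (a * k)
          rw [show (t * (v : G))⁻¹ * s ^ k * (t * (v : G)) = (v : G)⁻¹ * (t⁻¹ * s ^ k * t) * (v : G)
            by group, hta, mul_assoc, ← hn, ((Commute.refl s).pow_left (a * k)).zpow_right n |>.eq,
            inv_mul_cancel_left]
        rw [hcomm, CfsgLib.Char.extendByZero_apply_mem _ _
          (Subgroup.pow_mem _ (Subgroup.mem_zpowers s) _), hθ]
        simp only [hμs]
      rw [Finset.sum_congr rfl fun v _ => h1 v, Finset.sum_congr rfl fun v _ => h2 v,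
        Finset.sum_const, Finset.sum_const, Finset.card_univ, ← Nat.card_eq_fintype_card,
        F.card_zpowers_s, nsmul_eq_mul, nsmul_eq_mul]
      have : (e : ℂ) ≠ 0 := Nat.cast_ne_zero.2 he
      field_simp
      ring
    · intro y hy
      refine CfsgLib.Char.extendByZero_of_notMem _ _ fun hmem => hy ?_
      have hyM : y ∈ Subgroup.normalizer (Subgroup.zpowers s : Set G) := by
        have := T.ti k hk y⁻¹ (by rwa [inv_inv])
        exact inv_inv y ▸ inv_mem this
      rcases htcov y hyM with h | h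
      · exact ⟨Sum.inl ⟨y, h⟩, rfl⟩
      · exact ⟨Sum.inr ⟨t⁻¹ * y, h⟩, mul_inv_cancel_left t y⟩
  -- the determinant forces inversion
  have hinv : e ∣ 1 + a := by
    have hperf := F.isPerfect hχ huniq
    set Φ : G → ℂ := A + (1 : G → ℂ) + (χ : G → ℂ)
    have hΦ : Cfsg.IsGeneralizedCharacter G Φ :=
      CfsgLib.Char.IsGeneralizedCharacter.add
        (CfsgLib.Char.IsGeneralizedCharacter.add hAgen CfsgLib.Char.IsGeneralizedCharacter.one)
        (CfsgLib.Char.IsIrrCharacter.isGeneralizedCharacter χ.2)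
    have hperm : e ∣ [0].sum + (p - 1) / e * ∑ l ∈ Finset.range e, l := by
      refine dvd_exponents hperf hω he F.pow_e
        (CfsgLib.Char.IsCharacter.isGeneralizedCharacter F.permChar_isCharacter) [0]
        (by simpa using F.e_pos) _ fun i hi => ?_
      by_cases h0 : i = 0
      · subst h0
        rw [pow_zero, F.permChar_one, F.coe_degree]
        simp
      · rw [F.permChar_pow_s fun hd => h0 (Nat.eq_zero_of_dvd_of_lt hd hi), if_neg h0]
        simp
    have h1e := F.one_lt_e hχ huniq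
    have hmain : e ∣ [1, a % e].sum + (p - 1) / e * ∑ l ∈ Finset.range e, l := by
      refine dvd_exponents hperf hω he F.pow_e hΦ [1, a % e]
        (by simp [Nat.mod_lt a F.e_pos, h1e]) _ fun i hi => ?_
      by_cases h0 : i = 0
      · subst h0
        simp only [Φ, Pi.add_apply, Pi.one_apply, pow_zero, hA1, hχ, zero_add, List.map_cons,
          List.map_nil, List.sum_cons, List.sum_nil, zero_mul, add_zero, if_pos]
        rw [F.coe_degree]
        push_cast
        ring
      · have hne : ¬ e ∣ i := fun hd => h0 (Nat.eq_zero_of_dvd_of_lt hd hi)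
        simp only [Φ, Pi.add_apply, Pi.one_apply, hAk i hne, F.chi_eq_one hχ huniq hne, if_neg h0]
        have : ω ^ (i * (a % e)) = ω ^ (a * i) := by
          conv_rhs => rw [← Nat.mod_add_div a e]
          rw [add_mul, pow_add, mul_comm (a % e) i, mul_assoc, pow_mul ω e, hω.pow_eq_one, one_pow,
            mul_one]
        simp only [List.map_cons, List.map_nil, List.sum_cons, List.sum_nil, mul_one, this, add_zero]
        ring
    simp only [List.sum_cons, List.sum_nil, add_zero, zero_add] at hperm hmain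
    have h3 := (Nat.dvd_add_left hperm).1 hmain
    have h4 : 1 + a = (1 + a % e) + e * (a / e) := by
      have := Nat.mod_add_div a e
      omega
    rw [h4]
    exact dvd_add h3 (dvd_mul_right _ _)
  have hexp : ∀ k, ω ^ (a * k) = ω ^ ((e - 1) * k) := fun k => by
    obtain ⟨q, hq⟩ := hinv
    have h1 : a + e = e * q + (e - 1) := by
      have := F.e_pos
      omega
    have h2 : ω ^ a = ω ^ (e - 1) := by
      rw [← mul_one (ω ^ a), ← hω.pow_eq_one, ← pow_add, h1, pow_add, pow_mul, hω.pow_eq_one,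
        one_pow, one_mul]
    rw [pow_mul, h2, pow_mul]
  refine ⟨A, hAgen, CfsgLib.Char.isClassFunction_indFun _ _, hA1, fun g hg =>
    CfsgLib.Char.indFun_eq_zero_of_forall_notMem _ _ g hg, fun k hk => by rw [hAk k hk, hexp],
    fun f hf => ?_, t, htE, ?_⟩
  · rw [hA, CfsgLib.Char.classInner_indFun _ _ _ hf, Cfsg.classInner, F.card_zpowers_s]
    congr 1
    rw [Finset.sum_congr rfl fun v _ => show θ v * conj (f v) =
      (if h : (v : G) ∈ Subgroup.zpowers s then θ ⟨v, h⟩ else 0) * conj (f v) by rw [dif_pos v.2],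
      F.sum_zpowers fun g => (if h : g ∈ Subgroup.zpowers s then θ ⟨g, h⟩ else 0) * conj (f g)]
    refine Finset.sum_congr rfl fun k _ => ?_
    rw [dif_pos (Subgroup.pow_mem _ (Subgroup.mem_zpowers s) k), hθ]
    simp only [hμs]
  · have h1 : t⁻¹ * s * t = s⁻¹ := by
      rw [ha]
      obtain ⟨q, hq⟩ := hinv
      refine eq_inv_of_mul_eq_one_left ?_
      rw [← pow_succ, add_comm, hq, pow_mul, F.pow_e, one_pow]
    have h2 : (t⁻¹ * s * t)⁻¹ = s := by rw [h1, inv_inv]
    have h3 : t⁻¹ * s⁻¹ * t = s := by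
      conv_rhs => rw [← h2]
      group
    calc t * s * t⁻¹ = t * (t⁻¹ * s⁻¹ * t) * t⁻¹ := by rw [h3]
      _ = s⁻¹ := by group

/-- The character of degree `p + 1`. -/
theorem exists_psi (h3 : 3 ≤ e) {ω : ℂ} (hω : IsPrimitiveRoot ω e) :
    ∃ ψ : IrrCharacter G, (ψ : G → ℂ) 1 = (p : ℂ) + 1 ∧
      (∀ i, ¬ p ∣ i → (ψ : G → ℂ) (x ^ i) = 1) ∧
      (∀ i k, ¬ e ∣ k → (ψ : G → ℂ) (x ^ i * s ^ k) = ω ^ k + ω ^ ((e - 1) * k)) ∧
      ∑ h : stabilizer G a₀, (ψ : G → ℂ) h = 0 ∧
      ∀ g, (ψ : G → ℂ) g⁻¹ = (ψ : G → ℂ) g := by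
  have he : e ≠ 0 := F.e_pos.ne'
  have he0 : (e : ℂ) ≠ 0 := Nat.cast_ne_zero.2 he
  obtain ⟨A, hAgen, hAcl, hA1, hA0, hAk, hAin, -⟩ := F.exists_alpha hχ huniq T hω
  have hkk : ∀ k < e, k ≠ 0 → ¬ e ∣ k := fun k hk hk0 hd => hk0 (Nat.eq_zero_of_dvd_of_lt hd hk)
  have hone : ∀ f : G → ℂ, Cfsg.IsClassFunction G f → (∀ k, ¬ e ∣ k → f (s ^ k) = 1) →
      Cfsg.classInner A f = -1 := by
    intro f hf hf1
    rw [hAin f hf, Finset.sum_congr rfl (g := fun k => ω ^ (k * 1) - 1) fun k hk => ?_,
      Finset.sum_sub_distrib, sum_pow_mul hω, if_neg (fun h => by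
        have := Nat.le_of_dvd one_pos h; omega), Finset.sum_const, Finset.card_range, nsmul_eq_mul,
      mul_one, zero_sub, mul_neg, inv_mul_cancel₀ he0]
    rw [mul_one]
    by_cases h0 : k = 0
    · subst h0; simp
    · rw [hf1 k (hkk k (Finset.mem_range.1 hk) h0), map_one, mul_one]
  have hnorm : Cfsg.classInner A A = 3 := by
    have hterm : ∀ k ∈ Finset.range e, (ω ^ k - 1) * conj (A (s ^ k)) =
        ω ^ (k * 2) + ω ^ (k * e) - 3 * ω ^ (k * 1) - ω ^ (k * (e - 1)) + 2 := by
      intro k hk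
      have hconj : conj ω = ω ^ (e - 1) := by
        rw [← Complex.inv_eq_conj (Complex.norm_eq_one_of_pow_eq_one hω.pow_eq_one he)]
        exact inv_eq_of_mul_eq_one_right (by rw [← pow_succ', Nat.sub_add_cancel F.e_pos, hω.pow_eq_one])
      by_cases h0 : k = 0
      · subst h0; simp [hA1]; norm_num
      · have hc1 : conj (ω ^ k) = ω ^ (k * (e - 1)) := by rw [map_pow, hconj, ← pow_mul, mul_comm]
        have hc2 : conj (ω ^ ((e - 1) * k)) = ω ^ k := by
          rw [pow_mul, map_pow, ← hconj, Complex.conj_conj]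
        rw [hAk k (hkk k (Finset.mem_range.1 hk) h0), map_sub, map_add, map_ofNat, hc1, hc2]
        have : ω ^ (k * e) = ω ^ k * ω ^ (k * (e - 1)) := by
          rw [← pow_add]
          congr 1
          conv_lhs => rw [show e = (e - 1) + 1 from (Nat.sub_add_cancel F.e_pos).symm]
          ring
        rw [this, pow_mul ω k 2, mul_one]
        ring
    rw [hAin A hAcl, Finset.sum_congr rfl hterm]
    simp only [Finset.sum_add_distrib, Finset.sum_sub_distrib, ← Finset.mul_sum, sum_pow_mul hω]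
    rw [if_neg (fun h => by have := Nat.le_of_dvd two_pos h; omega), if_pos dvd_rfl,
      if_neg (fun h => by have := Nat.le_of_dvd one_pos h; omega),
      if_neg (fun h => by have := Nat.le_of_dvd (by omega) h; omega), Finset.sum_const,
      Finset.card_range, nsmul_eq_mul]
    field_simp
    ring
  -- the expansion in irreducible characters
  choose z hz using fun φ : IrrCharacter G => CfsgLib.CharExc.exists_int_classInner hAgen φ.2
  set I : IrrCharacter G := CfsgLib.Char.principalIrr with hI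
  have hzI : z I = -1 := by
    have h := hone (I : G → ℂ) (CfsgLib.Char.IsIrrCharacter.isClassFunction I.2)
      fun k _ => CfsgLib.Char.principalIrr_apply _
    rw [hz] at h; exact_mod_cast h
  have hzχ : z χ = -1 := by
    have h := hone (χ : G → ℂ) (CfsgLib.Char.IsIrrCharacter.isClassFunction χ.2)
      fun k hk => F.chi_eq_one hχ huniq hk
    rw [hz] at h; exact_mod_cast h
  have hIχ : I ≠ χ := fun h => by
    have h1 : (I : G → ℂ) 1 = (p : ℂ) := by rw [h, hχ]
    rw [hI, CfsgLib.Char.principalIrr_apply] at h1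
    have h2 : p = 1 := by exact_mod_cast h1.symm
    have := F.five_le
    omega
  have hexp : A = ∑ φ : IrrCharacter G, (z φ : ℂ) • (φ : G → ℂ) := by
    conv_lhs => rw [CfsgLib.Char.IsClassFunction.eq_sum_classInner hAcl]
    simp only [hz]
  have hsq : ∑ φ : IrrCharacter G, z φ * z φ = 3 := by
    have h := hnorm
    rw [hexp, CfsgLib.Char.classInner_sum_smul_sum_smul] at h
    simp only [map_intCast] at h
    exact_mod_cast h
  set R := (Finset.univ.erase I).erase χ with hR
  have hsplit : ∀ {M : Type} [AddCommMonoid M] (f : IrrCharacter G → M),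
      ∑ φ, f φ = f I + (f χ + ∑ φ ∈ R, f φ) := by
    intro M _ f
    rw [← Finset.add_sum_erase _ f (Finset.mem_univ I),
      ← Finset.add_sum_erase _ f (Finset.mem_erase.2 ⟨hIχ.symm, Finset.mem_univ χ⟩)]
  rw [hsplit, hzI, hzχ] at hsq
  have hR1 : ∑ φ ∈ R, z φ * z φ = 1 := by linarith
  obtain ⟨ψ, hψR, hψ0⟩ : ∃ ψ ∈ R, z ψ * z ψ ≠ 0 :=
    Finset.exists_ne_zero_of_sum_ne_zero (by rw [hR1]; norm_num)
  have hψ1 : z ψ * z ψ = 1 := by
    have hle := Finset.single_le_sum (fun φ _ => mul_self_nonneg (z φ)) hψR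
    rw [hR1] at hle
    have := mul_self_nonneg (z ψ)
    omega
  have hrest : ∀ φ ∈ R.erase ψ, z φ = 0 := by
    intro φ hφ
    rw [← Finset.add_sum_erase _ _ hψR, hψ1, add_eq_left,
      Finset.sum_eq_zero_iff_of_nonneg fun i _ => mul_self_nonneg (z i)] at hR1
    exact mul_self_eq_zero.1 (hR1 φ hφ)
  have hval : ∀ g, A g = -1 - (χ : G → ℂ) g + (z ψ : ℂ) * (ψ : G → ℂ) g := by
    intro g
    have h := congrFun hexp g
    simp only [Finset.sum_apply, Pi.smul_apply, smul_eq_mul] at h
    rw [h, ← Finset.add_sum_erase _ _ (Finset.mem_univ I),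
      ← Finset.add_sum_erase _ _ (Finset.mem_erase.2 ⟨hIχ.symm, Finset.mem_univ χ⟩),
      ← Finset.add_sum_erase _ _ hψR, Finset.sum_eq_zero fun φ hφ => by
        rw [hrest φ hφ, Int.cast_zero, zero_mul], hzI, hzχ, hI, CfsgLib.Char.principalIrr_apply]
    push_cast
    ring
  have hzψ : z ψ = 1 := by
    have h := hval 1
    rw [hA1, hχ, ← CharTools.irr_degree_cast] at h
    have h' : z ψ * (charDegree (ψ : G → ℂ) : ℤ) = (p : ℤ) + 1 := by
      have : ((z ψ * (charDegree (ψ : G → ℂ) : ℤ) : ℤ) : ℂ) = (((p : ℤ) + 1 : ℤ) : ℂ) := by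
        push_cast
        linear_combination -h
      exact_mod_cast this
    rcases mul_self_eq_one_iff.1 hψ1 with h1 | h1
    · exact h1
    · rw [h1] at h'; have := F.five_le; omega
  have hψval : ∀ g, (ψ : G → ℂ) g = A g + 1 + (χ : G → ℂ) g := fun g => by
    have h := hval g
    rw [hzψ, Int.cast_one, one_mul] at h
    linear_combination -h
  have hclass := CfsgLib.Char.IsIrrCharacter.isClassFunction ψ.2
  refine ⟨ψ, by rw [hψval, hA1, hχ]; ring, fun i hi => ?_, fun i k hk => ?_, ?_, fun g => ?_⟩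
  · rw [hψval, F.chi_pow_x hχ hi, hA0 _ fun d hd => ?_]
    · ring
    · have h1 : orderOf (d⁻¹ * x ^ i * d) = p := by
        rw [show d⁻¹ * x ^ i * d = MulAut.conj d⁻¹ (x ^ i) by simp]
        exact (orderOf_injective (MulAut.conj d⁻¹).toMonoidHom (MulAut.conj d⁻¹).injective _).trans
          (F.hyp.orderOf_pow hi)
      have h2 := Subgroup.orderOf_dvd_natCard _ hd
      rw [h1, F.card_zpowers_s] at h2
      exact F.not_dvd_e h2
  · obtain ⟨d, hd⟩ := F.exists_conj hk i
    rw [← hd, hclass, hψval, hAk k hk, F.chi_eq_one hχ huniq hk]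
    ring
  · have h1 : Cfsg.classInner A (permChar (a₀ := a₀)) = -1 :=
      hone _ (CfsgLib.Char.isClassFunction_indFun _ _) fun k hk => F.permChar_pow_s hk
    rw [← CfsgLib.Char.classInner_conj_symm, permChar,
      CfsgLib.Char.classInner_indFun _ _ _ hAcl] at h1
    have hχ0 : Cfsg.classInner (permChar (a₀ := a₀)) (χ : G → ℂ) = 0 := by
      obtain ⟨n, hn⟩ := CfsgLib.Char.IsCharacter.exists_nat_classInner F.permChar_isCharacter χ.2
      have hI1 : Cfsg.classInner (permChar (a₀ := a₀)) (I : G → ℂ) = 1 := by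
        rw [permChar, CfsgLib.Char.classInner_indFun _ _ _
          (CfsgLib.Char.IsIrrCharacter.isClassFunction I.2)]
        simp only [Cfsg.classInner, hI, CfsgLib.Char.principalIrr_apply, map_one, mul_one,
          Finset.sum_const, Finset.card_univ, nsmul_eq_mul, ← Nat.card_eq_fintype_card]
        exact inv_mul_cancel₀ (Nat.cast_ne_zero.2 Nat.card_pos.ne')
      have hdec := congrFun (CfsgLib.Char.IsCharacter.eq_sum_classInner F.permChar_isCharacter) 1
      choose w hw using fun φ : IrrCharacter G =>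
        CfsgLib.Char.IsCharacter.exists_nat_classInner F.permChar_isCharacter φ.2
      simp only [Finset.sum_apply, Pi.smul_apply, smul_eq_mul, F.permChar_one, hw,
        ← CharTools.irr_degree_cast, ← Nat.cast_mul, ← Nat.cast_sum, Nat.cast_inj] at hdec
      rw [hsplit] at hdec
      have hwI : w I = 1 := by rw [hw] at hI1; exact_mod_cast hI1
      have hdI : charDegree (I : G → ℂ) = 1 := CharTools.charDegree_principal
      have hdχ : charDegree (χ : G → ℂ) = p := by
        have h := CharTools.irr_degree_cast χ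
        rw [hχ] at h
        exact_mod_cast h
      rw [hwI, hdI, hdχ] at hdec
      rw [hw, Nat.cast_eq_zero]
      by_contra hne
      have : p ≤ w χ * p := Nat.le_mul_of_pos_left p (Nat.pos_of_ne_zero hne)
      omega
    rw [permChar, CfsgLib.Char.classInner_indFun _ _ _
      (CfsgLib.Char.IsIrrCharacter.isClassFunction χ.2)] at hχ0
    have hN : ((Nat.card (stabilizer G a₀) : ℕ) : ℂ) ≠ 0 := Nat.cast_ne_zero.2 Nat.card_pos.ne'
    have h2 := congrArg conj h1
    rw [Complex.conj_conj] at h2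
    simp only [Cfsg.classInner, one_mul, map_neg, map_one] at h2 hχ0
    rw [inv_mul_eq_iff_eq_mul₀ hN, ← map_sum] at h2
    rw [mul_eq_zero, or_iff_right (inv_ne_zero hN), ← map_sum, map_eq_zero] at hχ0
    have h3 := congrArg conj h2
    simp only [Complex.conj_conj, map_mul, map_natCast, map_neg, map_one] at h3
    simp only [hψval, Finset.sum_add_distrib, hχ0, h3, Finset.sum_const, Finset.card_univ,
      ← Nat.card_eq_fintype_card, nsmul_eq_mul]
    ring
  · rw [hψval, hψval, F.chi_real hχ huniq]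
    congr 2
    by_cases hg : ∃ d : G, d⁻¹ * g * d ∈ Subgroup.zpowers s
    · obtain ⟨d, hd⟩ := hg
      obtain ⟨k, -, hk⟩ := Finset.mem_image.1
        ((isOfFinOrder_of_finite s).mem_zpowers_iff_mem_range_orderOf.1 hd)
      have e1 : A g = A (s ^ k) := by
        rw [hk]
        have := hAcl g d⁻¹
        rw [inv_inv] at this
        exact this.symm
      have e2 : A g⁻¹ = A ((s ^ k)⁻¹) := by
        rw [hk, show (d⁻¹ * g * d)⁻¹ = d⁻¹ * g⁻¹ * d by group]
        have := hAcl g⁻¹ d⁻¹
        rw [inv_inv] at this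
        exact this.symm
      rw [e1, e2]
      by_cases hek : e ∣ k
      · rw [orderOf_dvd_iff_pow_eq_one.1 (F.ord_s.symm ▸ hek), inv_one]
      · have h4 : (s ^ k)⁻¹ = s ^ ((e - 1) * k) := inv_eq_of_mul_eq_one_right (by
          rw [← pow_add, show k + (e - 1) * k = e * k by
            conv_rhs => rw [show e = (e - 1) + 1 from (Nat.sub_add_cancel F.e_pos).symm]
            ring, pow_mul, F.pow_e, one_pow])
        have h5 : ¬ e ∣ (e - 1) * k := fun h => hek ((Nat.Coprime.dvd_mul_left (by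
          rw [Nat.coprime_self_sub_right F.e_pos]; exact Nat.coprime_one_right e)).1 h)
        rw [h4, hAk k hek, hAk _ h5]
        obtain ⟨e', rfl⟩ : ∃ e', e = e' + 2 := ⟨e - 2, by omega⟩
        have h6 : (e' + 2 - 1) * ((e' + 2 - 1) * k) = k + (e' + 2) * (e' * k) := by
          rw [show e' + 2 - 1 = e' + 1 from rfl]; ring
        rw [h6, pow_add ω k, pow_mul ω (e' + 2), hω.pow_eq_one, one_pow, mul_one]
        ring
    · push Not at hg
      rw [hA0 g hg, hA0 g⁻¹ fun d hd => hg d (by
        have := inv_mem hd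
        rwa [show (d⁻¹ * g⁻¹ * d)⁻¹ = d⁻¹ * g * d by group] at this)]

end Frame

end CfsgLib.UniqueDegreeP
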