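import Cfsg.Agent.Lib.DefectOne.Group
import Cfsg.Agent.Lib.DefectOne.Principal
import Cfsg.Agent.Lib.Perm.PrimeDegree
import Cfsg.Agent.Lib.ItoPrimeDegree.Main

/-!
# The Sylow normaliser in a transitive group of prime degree: coordinates
-/

set_option autoImplicit false
set_option linter.unusedSectionVars false

namespace CfsgLib.UniqueDegreeP

open MulAction CfsgLib.DefectOne
open scoped Classical

universe u

variable {α : Type u} [Fintype α] {p : ℕ} [Fact p.Prime]

/-- A cycle `x` of length `p`, and `s` fixing `a₀` and generating the complement of `⟨x⟩` in its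
normaliser. -/
structure Frame (G : Subgroup (Equiv.Perm α)) (p : ℕ) (x s : G) (a₀ : α) (e c : ℕ) : Prop where
  nonsolvable : ¬ Group.IsSolvable G
  five_le : 5 ≤ p
  hyp : HypOne p x
  cent_eq : cent x = Subgroup.zpowers x
  bij : Function.Bijective fun i : ZMod p => (x ^ i.val) • a₀
  fix_s : s • a₀ = a₀
  ord_s : orderOf s = e
  dvd : e ∣ p - 1
  conj : s * x * s⁻¹ = x ^ c
  prim : ∀ k : ℕ, (c : ZMod p) ^ k = 1 ↔ e ∣ k
  norm_eq : ∀ g ∈ norm₁ x, ∃ i k : ℕ, g = x ^ i * s ^ k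

theorem card_eq_of_sylow {G : Type*} [Group G] [Finite G] (hd : p ∣ Nat.card G)
    (hsq : ¬ p ^ 2 ∣ Nat.card G) (P : Sylow p G) : Nat.card (P : Subgroup G) = p := by
  have hp : p.Prime := Fact.out
  rw [P.card_eq_multiplicity]
  have h1 := hp.factorization_pos_of_dvd Nat.card_pos.ne' hd
  have h2 : (Nat.card G).factorization p < 2 := by
    by_contra h
    exact hsq ((pow_dvd_pow p (not_lt.1 h)).trans (Nat.ordProj_dvd _ _))
  rw [show (Nat.card G).factorization p = 1 by omega, pow_one]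

theorem not_sq_dvd_card (hα : Fintype.card α = p) (G : Subgroup (Equiv.Perm α)) :
    ¬ p ^ 2 ∣ Nat.card G := by
  have hp : p.Prime := Fact.out
  intro h
  have h1 : p ^ 2 ∣ p.factorial := by
    refine h.trans ((Subgroup.card_subgroup_dvd_card G).trans ?_)
    rw [Nat.card_eq_fintype_card, Fintype.card_perm, hα]
  rw [show p = p - 1 + 1 from (Nat.succ_pred_eq_of_pos hp.pos).symm, Nat.factorial_succ,
    Nat.sub_add_cancel hp.one_le, sq, Nat.mul_dvd_mul_iff_left hp.pos, hp.dvd_factorial] at h1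
  have := hp.pos
  omega

/-- Construction of a frame from a Sylow subgroup and a complement in its normaliser. -/
theorem exists_frame [DecidableEq α] (hα : Fintype.card α = p) (G : Subgroup (Equiv.Perm α))
    [IsPretransitive G α] (hns : ¬ Group.IsSolvable G) (P : Sylow p G) (E : Subgroup G)
    (hPE : (P : Subgroup G) ⊔ E = Subgroup.normalizer ((P : Subgroup G) : Set G))
    (hPE' : (P : Subgroup G) ⊓ E = ⊥) :
    ∃ (x s : G) (a₀ : α) (e c : ℕ), Frame G p x s a₀ e c ∧ E = Subgroup.zpowers s ∧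
      Nat.card E = e ∧ (P : Subgroup G) = Subgroup.zpowers x := by
  have hp : p.Prime := Fact.out
  have h5 := CfsgLib.Perm.five_le_of_not_isSolvable (p := p)
    (by rw [Nat.card_eq_fintype_card]; exact hα) G hns
  obtain ⟨a⟩ : Nonempty α := Fintype.card_pos_iff.mp (hα ▸ hp.pos)
  have hd : p ∣ Nat.card G := by
    rw [← hα, ← Nat.card_eq_fintype_card (α := α), ← index_stabilizer_of_transitive G a]
    exact Subgroup.index_dvd_card _
  obtain ⟨x, hx, hPx, hcent⟩ :=
    exists_hypOne_of_sylow P (card_eq_of_sylow hd (not_sq_dvd_card hα G) P)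
  obtain ⟨ε, hε⟩ := CfsgLib.Perm.exists_coords hα (g := (x : Equiv.Perm α))
    (by rw [← Subgroup.coe_pow, hx.pow_p, Subgroup.coe_one])
    (fun h => hx.ne_one (Subtype.ext h))
  have hpow : ∀ (n : ℕ) (j : ZMod p), (x ^ n) • ε j = ε (j + n) := by
    intro n
    induction n with
    | zero => simp
    | succ n ih =>
      intro j
      rw [pow_succ', mul_smul, ih]
      show (x : Equiv.Perm α) (ε _) = _
      rw [hε, Nat.cast_succ, add_assoc]
  have hC : cent x = Subgroup.zpowers x := by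
    refine le_antisymm (fun g hg => ?_) (Subgroup.zpowers_le.2 self_mem_cent)
    have hg' : Commute g x := mem_cent_iff.1 hg
    obtain ⟨j, hj⟩ := ε.surjective (g • ε 0)
    refine Subgroup.mem_zpowers_iff.2 ⟨(j.val : ℤ), ?_⟩
    rw [zpow_natCast]
    refine Subtype.ext (Equiv.ext fun b => ?_)
    obtain ⟨i, rfl⟩ := ε.surjective b
    show (x ^ j.val) • ε i = g • ε i
    have e1 : ε i = (x ^ i.val) • ε 0 := by rw [hpow, zero_add, ZMod.natCast_zmod_val]
    conv_rhs => rw [e1, ← mul_smul, (hg'.pow_right i.val).eq, mul_smul, ← hj, hpow]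
    rw [hpow, ZMod.natCast_zmod_val, ZMod.natCast_zmod_val, add_comm]
  -- the action of the normaliser on the cycle
  have hnorm : Subgroup.normalizer ((P : Subgroup G) : Set G) = norm₁ x := by
    show _ = Subgroup.normalizer (Subgroup.zpowers x : Set G)
    rw [hPx]
  obtain ⟨κ, hκ, hκ1⟩ := hx.exists_expHom
  have hEN : E ≤ norm₁ x := hnorm ▸ hPE ▸ le_sup_right
  set θ : E →* (ZMod p)ˣ := κ.comp (Subgroup.inclusion hEN)
  have hθ : Function.Injective θ := by
    refine (injective_iff_map_eq_one θ).2 fun v hv => ?_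
    have h1 : (v : G) ∈ cent x := (hκ1 _).1 hv
    rw [hC, ← hPx] at h1
    exact Subtype.ext (Subgroup.mem_bot.1 (hPE' ▸ Subgroup.mem_inf.2 ⟨h1, v.2⟩))
  haveI : IsCyclic E := isCyclic_of_injective θ hθ
  obtain ⟨s₀, hs₀⟩ := IsCyclic.exists_generator (α := E)
  set s : G := (s₀ : G)
  have hEs : E = Subgroup.zpowers s := by
    refine le_antisymm (fun g hg => ?_) (Subgroup.zpowers_le.2 s₀.2)
    obtain ⟨z, hz⟩ := Subgroup.mem_zpowers_iff.1 (hs₀ ⟨g, hg⟩)
    exact Subgroup.mem_zpowers_iff.2 ⟨z, congrArg Subtype.val hz⟩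
  set e := Nat.card E with he
  have hos : orderOf s = e := by rw [he, hEs, Nat.card_zpowers]
  set c : ℕ := ((θ s₀ : (ZMod p)ˣ) : ZMod p).val with hc
  have hconj : s * x * s⁻¹ = x ^ c := hκ (Subgroup.inclusion hEN s₀)
  have hcast : (c : ZMod p) = ((θ s₀ : (ZMod p)ˣ) : ZMod p) := by rw [hc, ZMod.natCast_zmod_val]
  have hprim : ∀ k : ℕ, (c : ZMod p) ^ k = 1 ↔ e ∣ k := fun k => by
    rw [hcast, ← Units.val_pow_eq_pow_val, Units.val_eq_one, ← map_pow,
      ← hos, show orderOf s = orderOf s₀ from Subgroup.orderOf_coe s₀, orderOf_dvd_iff_pow_eq_one]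
    exact ⟨fun h => hθ (by rw [h, map_one]), fun h => by rw [h, map_one]⟩
  have hdvd : e ∣ p - 1 := by
    have h1 := Subgroup.card_dvd_of_injective θ hθ
    rwa [Nat.card_eq_fintype_card (α := (ZMod p)ˣ), ZMod.card_units, ← he] at h1
  -- the fixed point of `s`
  obtain ⟨j₀, hj₀⟩ := ε.surjective (s • ε 0)
  have hsemi : ∀ n : ℕ, s * x ^ n = x ^ (c * n) * s := fun n => by
    rw [pow_mul, ← hconj, conj_pow]; group
  have hs_apply : ∀ i : ZMod p, s • ε i = ε ((c : ZMod p) * i + j₀) := fun i => by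
    have e1 : ε i = (x ^ i.val) • ε 0 := by rw [hpow, zero_add, ZMod.natCast_zmod_val]
    rw [e1, ← mul_smul, hsemi, mul_smul, ← hj₀, hpow]
    push_cast
    rw [add_comm]
    simp only [ZMod.natCast_zmod_val]
  obtain ⟨i₀, hi₀⟩ : ∃ i, s • ε i = ε i := by
    by_cases hs1 : s = 1
    · exact ⟨0, by rw [hs1, one_smul]⟩
    · have hc1 : (c : ZMod p) ≠ 1 := fun h => hs1 (by
        have := (hprim 1).1 (by rw [pow_one]; exact h)
        rw [Nat.dvd_one, ← hos, orderOf_eq_one_iff] at this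
        exact this)
      have h2 : (1 : ZMod p) - c ≠ 0 := sub_ne_zero.2 (Ne.symm hc1)
      refine ⟨j₀ / (1 - c), ?_⟩
      rw [hs_apply]
      congr 1
      field_simp
      ring
  refine ⟨x, s, ε i₀, e, c, ⟨hns, h5, hx, hC, ?_, hi₀, hos, hdvd, hconj, hprim, ?_⟩, hEs, rfl, hPx⟩
  · refine ⟨fun i j hij => ?_, fun b => ?_⟩
    · simp only [hpow, ZMod.natCast_zmod_val] at hij
      exact add_left_cancel (ε.injective hij)
    · obtain ⟨j, rfl⟩ := ε.surjective b
      exact ⟨j - i₀, by simp only [hpow, ZMod.natCast_zmod_val, add_sub_cancel]⟩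
  · intro g hg
    set g' : norm₁ x := ⟨g, hg⟩
    have h1 : ((P : Subgroup G).subgroupOf (norm₁ x)) ⊔ (E.subgroupOf (norm₁ x)) = ⊤ := by
      rw [← Subgroup.subgroupOf_sup (hnorm ▸ hPE ▸ le_sup_left) hEN, hPE, hnorm,
        Subgroup.subgroupOf_self]
    have h2 : κ g' ∈ ((P : Subgroup G).subgroupOf (norm₁ x) ⊔ E.subgroupOf (norm₁ x)).map κ :=
      Subgroup.mem_map_of_mem _ (h1 ▸ Subgroup.mem_top _)
    rw [Subgroup.map_sup, show ((P : Subgroup G).subgroupOf (norm₁ x)).map κ = ⊥ from by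
      rw [Subgroup.map_eq_bot_iff]
      intro v hv
      rw [MonoidHom.mem_ker, hκ1, hC, ← hPx]
      exact hv, bot_sup_eq] at h2
    obtain ⟨v, hv, hvg⟩ := h2
    have hv' : (v : G) ∈ Submonoid.powers s :=
      (isOfFinOrder_of_finite s).mem_zpowers_iff_mem_range_orderOf.1 (hEs ▸ hv) |> fun h => by
        obtain ⟨k, -, hk⟩ := Finset.mem_image.1 h
        exact ⟨k, hk⟩
    obtain ⟨k, hk⟩ := hv'
    have h3 : ((g' * v⁻¹ : norm₁ x) : G) ∈ cent x := (hκ1 _).1 (by rw [map_mul, map_inv, hvg, mul_inv_cancel])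
    rw [hC] at h3
    obtain ⟨i, -, hi⟩ := hx.mem_zpowers_iff_pow.1 h3
    refine ⟨i, k, ?_⟩
    rw [hi, show s ^ k = (v : G) from hk]
    simp [g']

namespace Frame

variable {G : Subgroup (Equiv.Perm α)} {x s : G} {a₀ : α} {e c : ℕ} (F : Frame G p x s a₀ e c)

/-- The power of `x` with exponent read modulo `p`. -/
def xp (x : G) (i : ZMod p) : G := x ^ i.val

include F

theorem xp_natCast (n : ℕ) : xp (p := p) x (n : ZMod p) = x ^ n := by
  rw [xp, F.hyp.pow_eq_pow_iff, ZMod.val_natCast, Nat.mod_mod]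

theorem xp_add (i j : ZMod p) : xp x (i + j) = xp x i * xp x j := by
  conv_lhs => rw [← ZMod.natCast_zmod_val i, ← ZMod.natCast_zmod_val j, ← Nat.cast_add]
  rw [F.xp_natCast, pow_add]
  rfl

theorem xp_zero : xp x (0 : ZMod p) = 1 := by simp [xp]

theorem e_pos : 0 < e := F.ord_s ▸ orderOf_pos s

theorem e_le : e < p := by
  have := Nat.le_of_dvd (by have := F.five_le; omega) F.dvd
  have := F.five_le
  omega

theorem not_dvd_e : ¬ p ∣ e := fun h => by
  have := Nat.le_of_dvd F.e_pos h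
  have := F.e_le
  omega

theorem pow_smul_base (k : ℕ) : (s ^ k) • a₀ = a₀ := by
  induction k with
  | zero => simp
  | succ k ih => rw [pow_succ, mul_smul, F.fix_s, ih]

theorem pow_mul_pow (k n : ℕ) : s ^ k * x ^ n = x ^ (c ^ k * n) * s ^ k := by
  induction k generalizing n with
  | zero => simp
  | succ k ih =>
    have h1 : s * x ^ n = x ^ (c * n) * s := by rw [pow_mul, ← F.conj, conj_pow]; group
    rw [pow_succ, mul_assoc, h1, ← mul_assoc, ih, mul_assoc, pow_succ, mul_assoc]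

theorem pow_mul_xp (k : ℕ) (i : ZMod p) : s ^ k * xp x i = xp x ((c : ZMod p) ^ k * i) * s ^ k := by
  conv_rhs => rw [← ZMod.natCast_zmod_val i, ← Nat.cast_pow, ← Nat.cast_mul, F.xp_natCast]
  exact F.pow_mul_pow k _

theorem pow_smul_xp (k : ℕ) (i : ZMod p) :
    (s ^ k) • (xp x i • a₀) = xp x ((c : ZMod p) ^ k * i) • a₀ := by
  rw [← mul_smul, F.pow_mul_xp, mul_smul, F.pow_smul_base]

theorem xp_smul_xp (i j : ZMod p) : xp x i • (xp x j • a₀) = xp x (i + j) • a₀ := by
  rw [← mul_smul, F.xp_add]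

theorem eq_base_of_fixed {k : ℕ} (hk : ¬ e ∣ k) {b : α} (hb : (s ^ k) • b = b) : b = a₀ := by
  obtain ⟨i, rfl⟩ := F.bij.2 b
  change (s ^ k) • (xp x i • a₀) = xp x i • a₀ at hb
  rw [F.pow_smul_xp] at hb
  have h1 := F.bij.1 hb
  have h2 : ((c : ZMod p) ^ k - 1) * i = 0 := by linear_combination h1
  rcases mul_eq_zero.1 h2 with h3 | h3
  · exact absurd ((F.prim k).1 (sub_eq_zero.1 h3)) hk
  · show xp x i • a₀ = a₀
    rw [h3, F.xp_zero, one_smul]

/-- `x ^ i * s ^ k` is conjugate to `s ^ k` when `s ^ k ≠ 1`. -/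
theorem exists_conj {k : ℕ} (hk : ¬ e ∣ k) (i : ℕ) :
    ∃ g : G, g * s ^ k * g⁻¹ = x ^ i * s ^ k := by
  have h1 : (1 : ZMod p) - (c : ZMod p) ^ k ≠ 0 :=
    sub_ne_zero.2 fun h => hk ((F.prim k).1 h.symm)
  set j : ZMod p := (i : ZMod p) / (1 - (c : ZMod p) ^ k) with hj
  refine ⟨xp x j, ?_⟩
  have h2 : (xp x j)⁻¹ = xp x (-j) :=
    inv_eq_of_mul_eq_one_right (by rw [← F.xp_add, add_neg_cancel, F.xp_zero])
  rw [h2, mul_assoc, F.pow_mul_xp, ← mul_assoc, ← F.xp_add, ← F.xp_natCast]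
  congr 2
  rw [hj]
  field_simp
  ring

theorem isPretransitive : IsPretransitive G α :=
  ⟨fun b b' => by
    obtain ⟨i, rfl⟩ := F.bij.2 b
    obtain ⟨j, rfl⟩ := F.bij.2 b'
    exact ⟨xp x (j - i), by
      show xp x (j - i) • (xp x i • a₀) = xp x j • a₀
      rw [F.xp_smul_xp, sub_add_cancel]⟩⟩

theorem card_alpha : Fintype.card α = p := by
  rw [← Fintype.card_congr (Equiv.ofBijective _ F.bij), ZMod.card]

theorem card_stabilizer_mul : Nat.card (stabilizer G a₀) * p = Nat.card G := by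
  haveI := F.isPretransitive
  rw [← Subgroup.card_mul_index (stabilizer G a₀), index_stabilizer_of_transitive,
    Nat.card_eq_fintype_card (α := α), F.card_alpha]

theorem not_dvd_card_stabilizer : ¬ p ∣ Nat.card (stabilizer G a₀) := fun h => F.hyp.not_sq (by
  rw [← F.card_stabilizer_mul, sq]
  exact Nat.mul_dvd_mul_right h p)

end Frame

end CfsgLib.UniqueDegreeP
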