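import Cfsg.Agent.Lib.UniqueDegreeP.Setting
import Cfsg.Agent.Lib.UniqueDegreeP.ExpSum
import Cfsg.Agent.Lib.Char.DefectZero
import Cfsg.Agent.Lib.Char.Linear
import Cfsg.Agent.Lib.Char.Conj
import Mathlib.GroupTheory.FiniteAbelian.Duality
import Mathlib.GroupTheory.GroupAction.Primitive
import Mathlib.Analysis.Complex.Polynomial.Basic
import Mathlib.RingTheory.RootsOfUnity.AlgebraicallyClosed

/-!
# A unique character of degree `p`: its values on the normaliser, simplicity
-/

set_option autoImplicit false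
set_option linter.unusedSectionVars false

namespace CfsgLib.UniqueDegreeP

open MulAction CfsgLib.DefectOne Cfsg
open scoped Classical commutatorElement

universe u

variable {α : Type u} [Fintype α] {p : ℕ} [Fact p.Prime]
  {G : Subgroup (Equiv.Perm α)} {x s : G} {a₀ : α} {e c : ℕ}

namespace Frame

variable (F : Frame G p x s a₀ e c)
include F

theorem regPart_eq_bot : regPart p x = ⊥ := by
  refine (Subgroup.eq_bot_iff_forall _).2 fun g hg => ?_
  obtain ⟨hgc, hgo⟩ := F.hyp.mem_regPart_iff.1 hg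
  rw [F.cent_eq] at hgc
  obtain ⟨i, -, rfl⟩ := F.hyp.mem_zpowers_iff_pow.1 hgc
  by_contra hne
  exact hgo (by rw [F.hyp.orderOf_pow fun hd => hne (F.hyp.pow_eq_one_iff.2 hd)])

theorem exists_conj_pow_x {g : G} (hg : p ∣ orderOf g) :
    ∃ (d : G) (i : ℕ), ¬ p ∣ i ∧ d * g * d⁻¹ = x ^ i := by
  obtain ⟨d, i, v, hi, -, hd⟩ := F.hyp.exists_conj_singular hg
  refine ⟨d, i, hi, ?_⟩
  rw [hd, show ((v : regPart p x) : G) = 1 from
    Subgroup.mem_bot.1 (F.regPart_eq_bot ▸ v.2), mul_one]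

/-- A nontrivial normal subgroup contains `x` and the group is covered by its cosets by the powers
of `s`. -/
theorem normal_cover {K : Subgroup G} [K.Normal] (hK : K ≠ ⊥) :
    x ∈ K ∧ ∀ g : G, ∃ k : ℕ, g * (s ^ k)⁻¹ ∈ K := by
  have hp : p.Prime := Fact.out
  haveI := F.isPretransitive
  haveI : IsPreprimitive G α := IsPreprimitive.of_prime_card
    (by rw [Nat.card_eq_fintype_card, F.card_alpha]; exact hp)
  have hfix : fixedPoints K α ≠ Set.univ := by
    intro hu
    refine hK ((Subgroup.eq_bot_iff_forall _).2 fun g hg => Subtype.ext (Equiv.ext fun b => ?_))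
    exact (hu ▸ Set.mem_univ b : b ∈ fixedPoints K α) ⟨g, hg⟩
  haveI : IsPretransitive K α := IsQuasiPreprimitive.isPretransitive_of_normal hfix
  have hd : p ∣ Nat.card K := by
    rw [← F.card_alpha, ← Nat.card_eq_fintype_card (α := α),
      ← index_stabilizer_of_transitive K a₀]
    exact Subgroup.index_dvd_card _
  obtain ⟨y, hy⟩ := exists_prime_orderOf_dvd_card' p hd
  obtain ⟨d, i, hi, hdy⟩ := F.exists_conj_pow_x (g := (y : G))
    (by rw [Subgroup.orderOf_coe, hy])
  have hxi : x ^ i ∈ K := hdy ▸ (inferInstance : K.Normal).conj_mem _ y.2 d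
  obtain ⟨j, hj⟩ := F.hyp.exists_pow_eq_self hi
  have hx : x ∈ K := hj ▸ Subgroup.pow_mem _ hxi j
  refine ⟨hx, fun g => ?_⟩
  have hcard : Nat.card (Subgroup.zpowers x) = p ^ (Nat.card G).factorization p := by
    rw [F.hyp.card_zpowers, F.hyp.factorization_eq_one, pow_one]
  let P : Sylow p G := Sylow.ofCard _ hcard
  have hP : (P : Subgroup G) = Subgroup.zpowers x := Sylow.coe_ofCard _ hcard
  have htop := Sylow.normalizer_sup_eq_top' (N := K) P
    (show (P : Subgroup G) ≤ K by rw [hP]; exact Subgroup.zpowers_le.2 hx)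
  have hg : g ∈ Subgroup.normalizer ((P : Subgroup G) : Set G) ⊔ K :=
    htop ▸ Subgroup.mem_top g
  rw [Subgroup.mem_sup_of_normal_right] at hg
  obtain ⟨n, hn, k', hk', rfl⟩ := hg
  rw [hP] at hn
  obtain ⟨i', k, rfl⟩ := F.norm_eq n hn
  refine ⟨k, ?_⟩
  have : x ^ i' * s ^ k * k' * (s ^ k)⁻¹ = x ^ i' * (s ^ k * k' * (s ^ k)⁻¹) := by group
  rw [this]
  exact K.mul_mem (K.pow_mem hx i') ((inferInstance : K.Normal).conj_mem _ hk' _)

variable {χ : IrrCharacter G} (hχ : (χ : G → ℂ) 1 = (p : ℂ))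
include hχ

theorem chi_pow_x {i : ℕ} (hi : ¬ p ∣ i) : (χ : G → ℂ) (x ^ i) = 0 := by
  have hp : p.Prime := Fact.out
  obtain ⟨n, ρ, hρ, hval⟩ := χ.2
  rw [← hval] at hχ ⊢
  haveI := hρ
  have hn : n = p := by
    rw [ρ.char_one, Module.finrank_fin_fun] at hχ
    exact_mod_cast hχ
  refine CfsgLib.Char.character_eq_zero_of_defect_zero ρ (p := p) hp (n := 1) ?_ ?_ ?_ _ ?_
  · rw [pow_one, ← F.hyp.orderOf_x]; exact orderOf_dvd_natCard x
  · exact F.hyp.not_sq
  · rw [pow_one, Module.finrank_fin_fun, hn]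
  · rw [F.hyp.orderOf_pow hi]

/-- On the complement `χ` is a linear character. -/
theorem chi_pow_s : ∃ l : ℂ, l ^ e = 1 ∧ ∀ k, ¬ e ∣ k → (χ : G → ℂ) (s ^ k) = l ^ k := by
  obtain ⟨n, ρ, hρ, hval⟩ := id χ.2
  have hp0 : (p : ℂ) ≠ 0 := Nat.cast_ne_zero.2 (Fact.out : p.Prime).ne_zero
  set T : Module.End ℂ (Fin n → ℂ) := (p : ℂ)⁻¹ • ∑ i : ZMod p, ρ (xp x i) with hT
  have hTx : ∀ i, ρ (xp x i) * T = T := fun i => by
    rw [hT, mul_smul_comm, Finset.mul_sum]
    congr 1
    simp only [← map_mul]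
    exact Fintype.sum_equiv (Equiv.addLeft i) _ _ fun j => by rw [Equiv.coe_addLeft, F.xp_add]
  have hTT : T * T = T := by
    conv_lhs => arg 1; rw [hT]
    rw [smul_mul_assoc, Finset.sum_mul, Finset.sum_congr rfl fun i _ => hTx i, Finset.sum_const,
      Finset.card_univ, ZMod.card, ← Nat.cast_smul_eq_nsmul ℂ, smul_smul, inv_mul_cancel₀ hp0,
      one_smul]
  have hTs : ∀ k, ρ (s ^ k) * T = T * ρ (s ^ k) := fun k => by
    rw [hT, mul_smul_comm, smul_mul_assoc, Finset.mul_sum, Finset.sum_mul]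
    congr 1
    have hck : (c : ZMod p) ^ k ≠ 0 := by
      refine pow_ne_zero k fun h0 => ?_
      have h1 := (F.prim e).2 dvd_rfl
      rw [h0, zero_pow F.e_pos.ne'] at h1
      exact zero_ne_one h1
    refine Fintype.sum_equiv (Equiv.mulLeft₀ _ hck) _ _ fun i => ?_
    rw [Equiv.mulLeft₀_apply, ← map_mul, ← map_mul, F.pow_mul_xp]
  have htr : ∀ g, (χ : G → ℂ) g = LinearMap.trace ℂ _ (ρ g) := fun g =>
    (congrFun hval g).symm
  have hT1 : LinearMap.trace ℂ _ T = 1 := by
    rw [hT, map_smul, map_sum, Finset.sum_eq_single (0 : ZMod p)]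
    · rw [← htr, F.xp_zero, hχ, smul_eq_mul, inv_mul_cancel₀ hp0]
    · intro i _ hi
      rw [← htr]
      exact F.chi_pow_x hχ fun hd => hi (by
        rwa [← ZMod.natCast_eq_zero_iff, ZMod.natCast_zmod_val] at hd)
    · exact fun h => absurd (Finset.mem_univ _) h
  have hproj : LinearMap.IsProj (LinearMap.range T) T := LinearMap.IsIdempotentElem.isProj_range _ hTT
  have hrk : Module.finrank ℂ (LinearMap.range T) = 1 := by
    have := hproj.trace
    rw [hT1] at this
    exact_mod_cast this.symm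
  obtain ⟨v, hv0, hv⟩ := finrank_eq_one_iff'.1 hrk
  have hsT : ρ s (v : Fin n → ℂ) ∈ LinearMap.range T := by
    obtain ⟨w, hw⟩ := v.2
    refine ⟨ρ s w, ?_⟩
    rw [← hw, ← pow_one s]
    exact (LinearMap.congr_fun (hTs 1) w).symm
  obtain ⟨l, hl⟩ := hv ⟨_, hsT⟩
  have hl' : ρ s (v : Fin n → ℂ) = l • (v : Fin n → ℂ) := (congrArg Subtype.val hl).symm
  have hlk : ∀ k, ρ (s ^ k) * T = l ^ k • T := by
    intro k
    refine LinearMap.ext fun w => ?_
    obtain ⟨a, ha⟩ := hv ⟨T w, w, rfl⟩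
    have ha' : T w = a • (v : Fin n → ℂ) := (congrArg Subtype.val ha).symm
    show ρ (s ^ k) (T w) = l ^ k • T w
    rw [ha', map_smul, smul_comm]
    congr 1
    induction k with
    | zero => simp
    | succ k ih => rw [pow_succ', map_mul, Module.End.mul_apply, ih, map_smul, hl', smul_smul, pow_succ]
  refine ⟨l, ?_, fun k hk => ?_⟩
  · have h := congrArg (LinearMap.trace ℂ _) (hlk e)
    have hse : s ^ e = 1 := by rw [← F.ord_s, pow_orderOf_eq_one]
    rw [hse, map_one, one_mul, hT1, map_smul, hT1, smul_eq_mul, mul_one] at h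
    exact h.symm
  · have h := congrArg (LinearMap.trace ℂ _) (hlk k)
    rw [map_smul, hT1, smul_eq_mul, mul_one] at h
    rw [← h, hT, mul_smul_comm, map_smul, Finset.mul_sum, map_sum]
    have hterm : ∀ i : ZMod p, LinearMap.trace ℂ _ (ρ (s ^ k) * ρ (xp x i)) = (χ : G → ℂ) (s ^ k) := by
      intro i
      rw [← map_mul, ← htr, F.pow_mul_xp]
      obtain ⟨d, hd⟩ := F.exists_conj hk ((c : ZMod p) ^ k * i).val
      rw [show xp x ((c : ZMod p) ^ k * i) * s ^ k = d * s ^ k * d⁻¹ from hd.symm]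
      exact CfsgLib.Char.IsIrrCharacter.isClassFunction χ.2 _ _
    rw [Finset.sum_congr rfl fun i _ => hterm i, Finset.sum_const, Finset.card_univ, ZMod.card,
      ← Nat.cast_smul_eq_nsmul ℂ, smul_eq_mul, smul_eq_mul, inv_mul_cancel_left₀ hp0]

variable (huniq : ∀ φ : IrrCharacter G, (φ : G → ℂ) 1 = (p : ℂ) → φ = χ)
include huniq

theorem isPerfect : commutator G = ⊤ := by
  have hne : commutator G ≠ ⊥ := by
    intro h
    refine F.nonsolvable (isSolvable_of_comm fun a b => ?_)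
    have : ⁅a, b⁆ ∈ commutator G := by
      rw [commutator_def]; exact Subgroup.commutator_mem_commutator (Subgroup.mem_top a) (Subgroup.mem_top b)
    rw [h, Subgroup.mem_bot, commutatorElement_eq_one_iff_mul_comm] at this
    exact this
  obtain ⟨-, hcov⟩ := F.normal_cover (K := commutator G) hne
  by_contra htop
  obtain ⟨g, -, hg⟩ := SetLike.exists_of_lt (lt_top_iff_ne_top.2 htop)
  have hg' : Abelianization.of g ≠ 1 := fun h => hg ((QuotientGroup.eq_one_iff g).1 h)
  haveI : NeZero (Monoid.exponent (Abelianization G)) :=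
    ⟨Monoid.exponent_ne_zero_of_finite⟩
  obtain ⟨ν, hν⟩ := CommGroup.exists_apply_ne_one_of_hasEnoughRootsOfUnity (Abelianization G) ℂ hg'
  set f : G →* ℂˣ := ν.comp Abelianization.of
  have hfs : ∀ k, f (s ^ k) = 1 := by
    intro k
    by_cases hk : e ∣ k
    · rw [orderOf_dvd_iff_pow_eq_one.1 (F.ord_s ▸ hk), map_one]
    obtain ⟨l, hle, hl⟩ := F.chi_pow_s hχ
    have heq : (⟨_, CfsgLib.Char.IsIrrCharacter.linear_mul χ.2 f⟩ : IrrCharacter G) = χ :=
      huniq _ (show (f 1 : ℂ) * (χ : G → ℂ) 1 = p by rw [map_one, Units.val_one, one_mul, hχ])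
    have h1 : (f (s ^ k) : ℂ) * (χ : G → ℂ) (s ^ k) = (χ : G → ℂ) (s ^ k) :=
      congrFun (congrArg Subtype.val heq) (s ^ k)
    refine Units.ext ((mul_eq_right₀ ?_).1 h1)
    rw [hl k hk]
    refine pow_ne_zero _ fun h0 => ?_
    rw [h0, zero_pow F.e_pos.ne'] at hle
    exact zero_ne_one hle
  refine hν ?_
  obtain ⟨k, hk⟩ := hcov g
  have h2 : f (g * (s ^ k)⁻¹) = 1 := Abelianization.commutator_subset_ker f hk
  rw [map_mul, map_inv, hfs, inv_one, mul_one] at h2
  exact h2

theorem isSimpleGroup : IsSimpleGroup G := by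
  haveI : Nontrivial G := ⟨x, 1, F.hyp.ne_one⟩
  refine ⟨fun K hK => or_iff_not_imp_left.2 fun hne => ?_⟩
  obtain ⟨-, hcov⟩ := F.normal_cover hne
  refine eq_top_iff.2 ?_
  rw [← F.isPerfect hχ huniq, commutator_def, Subgroup.commutator_le]
  intro a _ b _
  rw [← QuotientGroup.eq_one_iff]
  have hpow : ∀ g : G, ∃ k : ℕ, (g : G ⧸ K) = (s : G ⧸ K) ^ k := fun g => by
    obtain ⟨k, hk⟩ := hcov g
    refine ⟨k, ?_⟩
    rw [← QuotientGroup.eq_one_iff, QuotientGroup.mk_mul, QuotientGroup.mk_inv,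
      mul_inv_eq_one, QuotientGroup.mk_pow] at hk
    exact hk
  obtain ⟨i, hi⟩ := hpow a
  obtain ⟨j, hj⟩ := hpow b
  show QuotientGroup.mk' K ⁅a, b⁆ = 1
  rw [map_commutatorElement, commutatorElement_eq_one_iff_mul_comm]
  show (a : G ⧸ K) * (b : G ⧸ K) = (b : G ⧸ K) * (a : G ⧸ K)
  rw [hi, hj, ← pow_add, ← pow_add, add_comm]

theorem one_lt_e : 1 < e := by
  have := F.e_pos
  by_contra h
  obtain rfl : e = 1 := by omega
  have hperf := F.isPerfect hχ huniq
  -- Burnside's transfer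
  have hcard : Nat.card (Subgroup.zpowers x) = p ^ (Nat.card G).factorization p := by
    rw [F.hyp.card_zpowers, F.hyp.factorization_eq_one, pow_one]
  let P : Sylow p G := Sylow.ofCard _ hcard
  have hP : (P : Subgroup G) = Subgroup.zpowers x := Sylow.coe_ofCard _ hcard
  have hNC : Subgroup.normalizer ((P : Subgroup G) : Set G) ≤
      Subgroup.centralizer ((P : Subgroup G) : Set G) := by
    intro g hg
    rw [hP] at hg ⊢
    obtain ⟨i, k, rfl⟩ := F.norm_eq g hg
    rw [show s ^ k = 1 from orderOf_dvd_iff_pow_eq_one.1 (F.ord_s.symm ▸ one_dvd k), mul_one]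
    refine Subgroup.mem_centralizer_iff.2 fun y hy => ?_
    obtain ⟨n, rfl⟩ := Subgroup.mem_zpowers_iff.1 hy
    exact ((Commute.refl x).pow_left i).zpow_right n |>.symm
  haveI : Subgroup.FiniteIndex (P : Subgroup G) := inferInstance
  have hcompl := MonoidHom.ker_transferSylow_isComplement' P hNC
  have hker : (MonoidHom.transferSylow P hNC).ker = ⊤ := by
    haveI : IsMulCommutative (P : Subgroup G) := by rw [hP]; infer_instance
    refine eq_top_iff.2 (hperf ▸ ?_)
    rw [commutator_def, Subgroup.commutator_le]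
    intro a _ b _
    rw [MonoidHom.mem_ker, map_commutatorElement, commutatorElement_eq_one_iff_mul_comm]
    exact IsMulCommutative.is_comm.comm _ _
  have h1 := hcompl.card_mul
  rw [hker, Subgroup.card_top, hP, F.hyp.card_zpowers] at h1
  have hGpos : 0 < Nat.card G := Nat.card_pos
  have := F.five_le
  nlinarith

/-- The permutation character. -/
noncomputable def permChar : G → ℂ := Cfsg.indFun (stabilizer G a₀) fun _ => 1

omit hχ huniq in
theorem permChar_isCharacter : Cfsg.IsCharacter G (permChar (a₀ := a₀)) :=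
  CfsgLib.Char.IsCharacter.indFun _ (CfsgLib.Char.isCharacter_one (G := stabilizer G a₀))

omit hχ huniq in
theorem permChar_one : permChar (a₀ := a₀) (1 : G) = (p : ℂ) := by
  haveI := F.isPretransitive
  rw [permChar, CfsgLib.Char.indFun_apply_one, mul_one, index_stabilizer_of_transitive,
    Nat.card_eq_fintype_card (α := α), F.card_alpha]

omit hχ huniq in
theorem permChar_pow_s {k : ℕ} (hk : ¬ e ∣ k) : permChar (a₀ := a₀) (s ^ k) = 1 := by
  have h0 : ((Nat.card (stabilizer G a₀) : ℕ) : ℂ) ≠ 0 := Nat.cast_ne_zero.2 Nat.card_pos.ne'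
  rw [permChar, CfsgLib.Char.indFun_apply, inv_mul_eq_one₀ h0]
  symm
  rw [← Finset.sum_subset (Finset.subset_univ (Finset.univ.filter fun g : G => g ∈ stabilizer G a₀))
    fun g _ hg => CfsgLib.Char.extendByZero_of_notMem _ _ fun hmem => hg ?_]
  · rw [Finset.sum_congr rfl (g := fun _ => (1 : ℂ)) fun g hg => ?_, Finset.sum_const,
      nsmul_eq_mul, mul_one, Nat.card_eq_fintype_card, Fintype.card_subtype]
    rw [CfsgLib.Char.extendByZero_apply_mem]
    have hg' := (Finset.mem_filter.1 hg).2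
    exact mul_mem (mul_mem (inv_mem hg') (mem_stabilizer_iff.2 (F.pow_smul_base k))) hg'
  · refine Finset.mem_filter.2 ⟨Finset.mem_univ _, mem_stabilizer_iff.2 (F.eq_base_of_fixed hk ?_)⟩
    have h1 := mem_stabilizer_iff.1 hmem
    rw [mul_smul, mul_smul, inv_smul_eq_iff] at h1
    exact h1

/-- `χ` is one on the nontrivial powers of `s`. -/
theorem chi_eq_one {k : ℕ} (hk : ¬ e ∣ k) : (χ : G → ℂ) (s ^ k) = 1 := by
  have he : e ≠ 0 := F.e_pos.ne'
  haveI : NeZero e := ⟨he⟩
  obtain ⟨ω, hω⟩ := HasEnoughRootsOfUnity.exists_primitiveRoot ℂ e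
  obtain ⟨l, hle, hl⟩ := F.chi_pow_s hχ
  obtain ⟨b, hb, rfl⟩ := hω.eq_pow_of_pow_eq_one hle
  have hperf := F.isPerfect hχ huniq
  have hse : s ^ e = 1 := by rw [← F.ord_s, pow_orderOf_eq_one]
  obtain ⟨m, hm⟩ := F.dvd
  have hdeg : (p : ℂ) = 1 + ((m * e : ℕ) : ℂ) := by
    have h1 : p = 1 + m * e := by
      have := (Fact.out : p.Prime).one_le
      rw [mul_comm]; omega
    exact_mod_cast congrArg (Nat.cast : ℕ → ℂ) h1
  have hperm : e ∣ [0].sum + m * ∑ l ∈ Finset.range e, l := by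
    refine dvd_exponents hperf hω he hse
      (CfsgLib.Char.IsCharacter.isGeneralizedCharacter F.permChar_isCharacter) [0] (by simpa using F.e_pos) m fun i hi => ?_
    by_cases h0 : i = 0
    · subst h0
      rw [pow_zero, F.permChar_one, hdeg]
      simp
    · rw [F.permChar_pow_s fun hd => h0 (Nat.eq_zero_of_dvd_of_lt hd hi), if_neg h0]
      simp
  have hchi : e ∣ [b].sum + m * ∑ l ∈ Finset.range e, l := by
    refine dvd_exponents hperf hω he hse
      (CfsgLib.Char.IsIrrCharacter.isGeneralizedCharacter χ.2) [b] (by simpa using hb) m fun i hi => ?_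
    by_cases h0 : i = 0
    · subst h0
      rw [pow_zero, hχ, hdeg]
      simp
    · rw [hl i fun hd => h0 (Nat.eq_zero_of_dvd_of_lt hd hi), if_neg h0, ← pow_mul, mul_comm b]
      simp
  simp only [List.sum_cons, List.sum_nil, add_zero, zero_add] at hperm hchi
  obtain rfl : b = 0 := Nat.eq_zero_of_dvd_of_lt ((Nat.dvd_add_left hperm).1 hchi) hb
  rw [hl k hk, pow_zero, one_pow]

theorem chi_real (g : G) : (χ : G → ℂ) g⁻¹ = (χ : G → ℂ) g := by
  have heq : (⟨_, CfsgLib.Char.IsIrrCharacter.conj_apply' χ.2⟩ : IrrCharacter G) = χ :=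
    huniq _ (by simp [hχ])
  rw [CfsgLib.Char.IsIrrCharacter.apply_inv χ.2]
  exact congrFun (congrArg Subtype.val heq) g

end Frame

end CfsgLib.UniqueDegreeP
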