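import Cfsg.Agent.Lib.UniqueDegreeP.Setting
import Cfsg.Agent.Lib.DefectOne.Lattice
import Mathlib.LinearAlgebra.Trace
import Mathlib.LinearAlgebra.Projection

/-!
# A module of dimension three from a transfer

A homomorphism of the sum-zero permutation module into a module of dimension `p + 1`, obtained as
a transfer from the Sylow subgroup; its cokernel has dimension three.
-/

set_option autoImplicit false
set_option linter.unusedSectionVars false

namespace CfsgLib.UniqueDegreeP

open MulAction CfsgLib.DefectOne Matrix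
open scoped Classical

universe u w

section Trace

variable {k : Type*} [Field k] {V W : Type*} [AddCommGroup V] [Module k V] [FiniteDimensional k V]
  [AddCommGroup W] [Module k W] [FiniteDimensional k W]

/-- The trace is additive along an equivariant surjection. -/
theorem trace_eq_of_surjective (q : V →ₗ[k] W) (hq : Function.Surjective q) (f : V →ₗ[k] V)
    (h : W →ₗ[k] W) (hf : q ∘ₗ f = h ∘ₗ q) (hst : ∀ v ∈ LinearMap.ker q, f v ∈ LinearMap.ker q) :
    LinearMap.trace k V f =
      LinearMap.trace k (LinearMap.ker q) (f.restrict hst) + LinearMap.trace k W h := by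
  obtain ⟨σ, hσ⟩ := q.exists_rightInverse_of_surjective (LinearMap.range_eq_top.2 hq)
  have hσ' : ∀ w, q (σ w) = w := LinearMap.congr_fun hσ
  set π : V →ₗ[k] LinearMap.ker q := LinearMap.codRestrict _ (LinearMap.id - σ ∘ₗ q) fun v => by
    simp [LinearMap.mem_ker, hσ'] with hπ
  have hsplit : f = ((LinearMap.ker q).subtype ∘ₗ (π ∘ₗ f)) + σ ∘ₗ (q ∘ₗ f) :=
    LinearMap.ext fun v => by simp [hπ]
  conv_lhs => rw [hsplit]
  rw [map_add, LinearMap.trace_comp_comm', LinearMap.trace_comp_comm' (q ∘ₗ f) σ]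
  congr 2
  · refine LinearMap.ext fun v => Subtype.ext ?_
    have h0 : q (f v) = 0 := hst v v.2
    simp [hπ, h0]
  · rw [hf, LinearMap.comp_assoc, hσ, LinearMap.comp_id]

end Trace

variable {α : Type u} [Fintype α] {p : ℕ} [Fact p.Prime]
  {G : Subgroup (Equiv.Perm α)} {x s : G} {a₀ : α} {e c : ℕ}
  {k : Type w} [Field k] [CharP k p]

namespace Frame

variable (F : Frame G p x s a₀ e c)
include F

theorem trace_permRep (g : G) :
    LinearMap.trace k (α → k) (Cfsg.permRep k G α g) =
      ((Finset.univ.filter fun b : α => g • b = b).card : k) := by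
  rw [LinearMap.trace_eq_matrix_trace k (Pi.basisFun k α), Matrix.trace,
    Finset.card_filter, Nat.cast_sum]
  refine Finset.sum_congr rfl fun b _ => ?_
  rw [Matrix.diag_apply, LinearMap.toMatrix_apply, Pi.basisFun_repr, Pi.basisFun_apply]
  show (Pi.single b 1 : α → k) (g⁻¹ • b) = _
  rw [Pi.single_apply]
  push_cast
  exact if_congr (by rw [inv_smul_eq_iff, eq_comm]) rfl rfl

theorem natCast_fix_inv (g : G) :
    (Finset.univ.filter fun b : α => g⁻¹ • b = b).card =
      (Finset.univ.filter fun b : α => g • b = b).card := by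
  congr 1
  exact Finset.filter_congr fun b _ => by rw [inv_smul_eq_iff, eq_comm]

theorem card_fix_s (hs : ¬ e ∣ 1) : (Finset.univ.filter fun b : α => s • b = b).card = 1 := by
  rw [Finset.card_eq_one]
  refine ⟨a₀, Finset.ext fun b => ?_⟩
  simp only [Finset.mem_filter, Finset.mem_univ, true_and, Finset.mem_singleton]
  exact ⟨fun hb => F.eq_base_of_fixed (k := 1) hs (by rwa [pow_one]), fun hb => hb ▸ F.fix_s⟩

/-- A coset of `⟨x⟩` fixed by `x` is the coset of a power of `s`. -/
theorem fixed_coset {g : G} (hg : g⁻¹ * x * g ∈ Subgroup.zpowers x) :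
    ∃ m, m < e ∧ (g : G ⧸ Subgroup.zpowers x) = (s ^ m : G) := by
  obtain ⟨i, -, hi⟩ := F.hyp.mem_zpowers_iff_pow.1 hg
  have hn : g⁻¹ ∈ norm₁ x := F.hyp.mem_norm_iff.2 ⟨i, fun hd => F.hyp.ne_one (by
    have h1 : g⁻¹ * x * g = 1 := by rw [← hi, F.hyp.pow_eq_one_iff.2 hd]
    have h2 := congrArg (fun z => g * z * g⁻¹) h1
    simp only [mul_one, mul_inv_cancel] at h2
    rw [← h2]; group), by rw [inv_inv, hi]⟩
  obtain ⟨i', m, hg'⟩ := F.norm_eq g (by simpa using inv_mem hn)
  refine ⟨m % e, Nat.mod_lt _ F.e_pos, ?_⟩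
  have hm : s ^ (m % e) = s ^ m := by rw [← F.ord_s, pow_mod_orderOf]
  rw [hm, hg']
  refine (QuotientGroup.eq.2 ?_).symm
  have h1 : s ∈ Subgroup.normalizer (Subgroup.zpowers x : Set G) :=
    F.hyp.mem_norm_iff.2 ⟨c, fun hd => F.hyp.ne_one (by
      have := F.conj
      rw [F.hyp.pow_eq_one_iff.2 hd, conj_eq_one_iff] at this
      exact this), F.conj⟩
  have h2 := (Subgroup.mem_normalizer_iff.1 (inv_mem (pow_mem h1 m)) (x ^ i')).1
    (pow_mem (Subgroup.mem_zpowers x) i')
  rwa [inv_inv, mul_assoc] at h2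

variable (τ : G →* Matrix (Fin (p + 1)) (Fin (p + 1)) k)

/-- The partial sums of the orbit of `v`. -/
noncomputable def psum (x : G) (v : Fin (p + 1) → k) (i : ZMod p) : Fin (p + 1) → k :=
  ∑ j ∈ Finset.range i.val, τ (x ^ j) *ᵥ v

/-- The quotient module of dimension three. -/
theorem exists_three_dim (he : 1 < e) (hH : ∑ᶠ h : stabilizer G a₀, τ h = 0)
    (htr : ∀ g, (τ g⁻¹).trace = (τ g).trace) {v : Fin (p + 1) → k}
    (hv0 : geom p (τ x) *ᵥ v = 0) (hvR : v ∉ (τ x - 1).mulVecLin.range)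
    (hvs : τ s *ᵥ v = (c : k) • v) :
    ∃ R : G →* Matrix (Fin 3) (Fin 3) k, (∀ g, (R g⁻¹).trace = (R g).trace) ∧
      (R s).trace = (τ s).trace + 1 := by
  have hp : p.Prime := Fact.out
  haveI := F.isPretransitive
  haveI : NeZero p := ⟨hp.ne_zero⟩
  set π := Cfsg.permRep k G α with hπ
  have hπapp : ∀ g f b, π g f b = f (g⁻¹ • b) := fun g f b => rfl
  set A : Submodule k (α → k) := (Cfsg.permSumZero k G α).toSubmodule with hA
  have hmemA : ∀ f, f ∈ A ↔ ∑ b, f b = 0 := fun f => Iff.rfl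
  have hAst : ∀ g, ∀ f ∈ A, π g f ∈ A := fun g f hf =>
    (Cfsg.permSumZero k G α).apply_mem_toSubmodule g hf
  let pt : ZMod p ≃ α := Equiv.ofBijective _ F.bij
  have hpt : ∀ i, pt i = xp x i • a₀ := fun i => rfl
  set u : ZMod p → (Fin (p + 1) → k) := psum τ x v with hu
  have hu0 : u 0 = 0 := by simp [hu, psum]
  have hu1 : ∀ i, u (i + 1) = v + τ x *ᵥ u i := by
    intro i
    have hU : ∀ n, (∑ j ∈ Finset.range (n + 1), τ (x ^ j) *ᵥ v) =
        v + τ x *ᵥ ∑ j ∈ Finset.range n, τ (x ^ j) *ᵥ v := fun n => by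
      rw [Finset.sum_range_succ', add_comm (Finset.sum _ _), Matrix.mulVec_sum]
      congr 1
      · simp
      · exact Finset.sum_congr rfl fun j _ => by rw [pow_succ', map_mul, Matrix.mulVec_mulVec]
    have hlt := ZMod.val_lt i
    rcases Nat.lt_or_ge (i.val + 1) p with h | h
    · have h1 : (i + 1).val = i.val + 1 := by
        rw [ZMod.val_add, ZMod.val_one, Nat.mod_eq_of_lt h]
      simp only [hu, psum, h1, hU]
    · have h1 : (i + 1).val = 0 := by
        rw [ZMod.val_add, ZMod.val_one, show i.val + 1 = p by omega, Nat.mod_self]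
      simp only [hu, psum, h1, ← hU, show i.val + 1 = p by omega, Finset.range_zero,
        Finset.sum_empty]
      rw [← hv0, geom, Matrix.sum_mulVec]
      simp only [map_pow]
  set f₀ : (α → k) →ₗ[k] (Fin (p + 1) → k) :=
    ∑ i, (LinearMap.proj (pt i) : (α → k) →ₗ[k] k).smulRight (u i) with hf₀
  have hf₀app : ∀ f, f₀ f = ∑ i, f (pt i) • u i := fun f => by simp [hf₀]
  have hx1 : ∀ i, x⁻¹ • pt i = pt (i - 1) := fun i => by
    rw [inv_smul_eq_iff, hpt, hpt, show x • (xp x (i - 1) • a₀) = xp x 1 • (xp x (i - 1) • a₀) by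
      show _ = (x ^ (1 : ZMod p).val) • _
      rw [ZMod.val_one, pow_one], F.xp_smul_xp, add_sub_cancel]
  have hf₀x : ∀ f ∈ A, f₀ (π x f) = τ x *ᵥ f₀ f := by
    intro f hf
    rw [hf₀app, hf₀app, Fintype.sum_equiv (Equiv.subRight (1 : ZMod p))
      (fun i => π x f (pt i) • u i) (fun i => f (pt i) • u (i + 1)) fun i => by
        simp [hπapp, hx1]]
    have h0 : ∑ i, f (pt i) = 0 := (Equiv.sum_comp pt f).trans ((hmemA f).1 hf)
    simp only [hu1, smul_add, Finset.sum_add_distrib, ← Finset.sum_smul, h0, zero_smul, zero_add,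
      Matrix.mulVec_sum, Matrix.mulVec_smul]
  have hf₀P : ∀ n : ℕ, ∀ f ∈ A, f₀ (π (x ^ n) f) = τ (x ^ n) *ᵥ f₀ f := by
    intro n
    induction n with
    | zero => intro f _; simp
    | succ n ih =>
      intro f hf
      rw [pow_succ', map_mul π, Module.End.mul_apply, hf₀x _ (hAst _ f hf), ih f hf, map_mul,
        Matrix.mulVec_mulVec]
  set T : G → (α → k) →ₗ[k] (Fin (p + 1) → k) :=
    fun g => (τ g).mulVecLin ∘ₗ f₀ ∘ₗ π g⁻¹ with hT
  have hTapp : ∀ g f, T g f = τ g *ᵥ f₀ (π g⁻¹ f) := fun g f => rfl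
  have hTcoset : ∀ g g' : G, (g : G ⧸ Subgroup.zpowers x) = g' → ∀ f ∈ A, T g' f = T g f := by
    intro g g' hgg f hf
    obtain ⟨n, -, hn⟩ := F.hyp.mem_zpowers_iff_pow.1 (QuotientGroup.eq.1 hgg)
    have hg' : g' = g * x ^ n := by rw [hn, mul_inv_cancel_left]
    subst hg'
    set f' := π (g * x ^ n)⁻¹ f with hf'
    have h1 : π g⁻¹ f = π (x ^ n) f' := by
      rw [hf', ← Module.End.mul_apply, ← map_mul]; congr 2; group
    rw [hTapp, hTapp, ← hf', h1, hf₀P n f' (hAst _ f hf), map_mul, Matrix.mulVec_mulVec]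
  set Φ : (α → k) →ₗ[k] (Fin (p + 1) → k) :=
    ∑ q : G ⧸ Subgroup.zpowers x, T q.out with hΦ
  have hΦapp : ∀ f, Φ f = ∑ q : G ⧸ Subgroup.zpowers x, T q.out f := fun f => by simp [hΦ]
  have hΦeq : ∀ h : G, ∀ f ∈ A, Φ (π h f) = τ h *ᵥ Φ f := by
    intro h f hf
    rw [hΦapp, hΦapp, Matrix.mulVec_sum]
    refine Fintype.sum_equiv (MulAction.toPerm (α := G) h⁻¹) _ _ fun q => ?_
    have h1 : ((h⁻¹ * q.out : G) : G ⧸ Subgroup.zpowers x) =
        ((MulAction.toPerm (α := G) h⁻¹ q).out : G) := by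
      rw [QuotientGroup.out_eq', MulAction.toPerm_apply]
      conv_rhs => rw [← QuotientGroup.out_eq' q]
      rfl
    rw [hTcoset _ _ h1 f hf, hTapp, hTapp, Matrix.mulVec_mulVec, ← map_mul, ← Module.End.mul_apply,
      ← map_mul, mul_inv_cancel_left, _root_.mul_inv_rev, inv_inv]
  -- modulo the image of `x - 1`
  set Rg : Submodule k (Fin (p + 1) → k) := (τ x - 1).mulVecLin.range with hRg
  have hxR : ∀ (n : ℕ) (w : Fin (p + 1) → k), τ (x ^ n) *ᵥ w - w ∈ Rg := by
    intro n w
    refine ⟨(∑ j ∈ Finset.range n, τ x ^ j) *ᵥ w, ?_⟩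
    rw [Matrix.mulVecLin_apply, Matrix.mulVec_mulVec, mul_geom_sum, Matrix.sub_mulVec,
      Matrix.one_mulVec, map_pow]
  have hmk : ∀ (n : ℕ) (w : Fin (p + 1) → k), Rg.mkQ (τ (x ^ n) *ᵥ w) = Rg.mkQ w := fun n w =>
    (Submodule.Quotient.eq Rg).2 (hxR n w)
  have humod : ∀ i, Rg.mkQ (u i) = (i.val : k) • Rg.mkQ v := by
    intro i
    simp only [hu, psum, map_sum, hmk, Finset.sum_const, Finset.card_range, Nat.cast_smul_eq_nsmul]
  set b₀ : α → k := Pi.single (pt 1) 1 - Pi.single (pt 0) 1 with hb₀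
  have hb₀A : b₀ ∈ A := by rw [hmemA, hb₀]; simp
  have hck0 : (c : ZMod p) ≠ 0 := fun h0 => by
    have h1 := (F.prim e).2 dvd_rfl
    rw [h0, zero_pow F.e_pos.ne'] at h1
    exact zero_ne_one h1
  have hfix : ∀ m : ℕ, Rg.mkQ (T (s ^ m) b₀) = Rg.mkQ v := by
    intro m
    set d : ZMod p := ((c : ZMod p) ^ m)⁻¹ with hd
    have hcd : (c : ZMod p) ^ m * d = 1 := mul_inv_cancel₀ (pow_ne_zero m hck0)
    have hval : π (s ^ m)⁻¹ b₀ = Pi.single (pt d) 1 - Pi.single (pt 0) 1 := by
      funext b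
      obtain ⟨j, rfl⟩ := pt.surjective b
      rw [hπapp, inv_inv]
      have h1 : (s ^ m) • pt j = pt ((c : ZMod p) ^ m * j) := F.pow_smul_xp m j
      rw [hb₀, Pi.sub_apply, Pi.sub_apply, h1, Pi.single_apply, Pi.single_apply, Pi.single_apply,
        Pi.single_apply]
      simp only [pt.injective.eq_iff]
      congr 1
      · exact if_congr ⟨fun h => by
          calc j = d * ((c : ZMod p) ^ m * j) := by rw [← mul_assoc, mul_comm d, hcd, one_mul]
            _ = d := by rw [h, mul_one], fun h => by rw [h, hcd]⟩ rfl rfl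
      · exact if_congr (by rw [mul_eq_zero, or_iff_right (pow_ne_zero m hck0)]) rfl rfl
    have hf₀v : f₀ (π (s ^ m)⁻¹ b₀) = u d := by
      rw [hval, map_sub, hf₀app, hf₀app, Fintype.sum_eq_single d, Fintype.sum_eq_single 0]
      · simp [hu0]
      · intro i hi; rw [Pi.single_apply, if_neg fun h => hi (pt.injective h), zero_smul]
      · intro i hi; rw [Pi.single_apply, if_neg fun h => hi (pt.injective h), zero_smul]
    have hsm : τ (s ^ m) *ᵥ v = (c : k) ^ m • v := by
      induction m with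
      | zero => simp
      | succ m ih => ?_
      clear * - hvs
      induction m with
      | zero => simp [hvs]
      | succ m ih =>
        rw [pow_succ, map_mul, ← Matrix.mulVec_mulVec, hvs, Matrix.mulVec_smul, ih, smul_smul,
          ← pow_succ']
    have hudv : u d - (d.val : k) • v ∈ Rg := by
      rw [← Submodule.Quotient.eq]
      show Rg.mkQ (u d) = Rg.mkQ ((d.val : k) • v)
      rw [humod, map_smul]
    obtain ⟨z, hz⟩ := hudv
    have hst : τ (s ^ m) *ᵥ (u d - (d.val : k) • v) ∈ Rg := by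
      rw [← hz, Matrix.mulVecLin_apply, Matrix.mulVec_mulVec, mul_sub, mul_one, ← map_mul]
      have h2 : s ^ m * x = x ^ (c ^ m) * s ^ m := by
        have := F.pow_mul_pow m 1
        rwa [pow_one, mul_one] at this
      rw [h2, map_mul, Matrix.sub_mulVec, ← Matrix.mulVec_mulVec]
      exact hxR _ _
    rw [hTapp, hf₀v]
    have h3 : τ (s ^ m) *ᵥ u d =
        τ (s ^ m) *ᵥ (u d - (d.val : k) • v) + ((d.val : k) * (c : k) ^ m) • v := by
      rw [Matrix.mulVec_sub, Matrix.mulVec_smul, hsm, smul_smul, sub_add_cancel]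
    have h4 : (d.val : k) * (c : k) ^ m = 1 := by
      rw [← Nat.cast_pow, ← Nat.cast_mul, ← Nat.cast_one (R := k), CharP.natCast_eq_natCast k p,
        ← ZMod.natCast_eq_natCast_iff]
      push_cast
      rw [ZMod.natCast_zmod_val, mul_comm, hcd]
    rw [h3, h4, one_smul, map_add, Submodule.mkQ_apply, (Submodule.Quotient.mk_eq_zero Rg).2 hst,
      zero_add]
  -- the value of `Φ`
  set S : Finset (G ⧸ Subgroup.zpowers x) :=
    (Finset.range e).image fun m => ((s ^ m : G) : G ⧸ Subgroup.zpowers x) with hS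
  have hSinj : Set.InjOn (fun m => ((s ^ m : G) : G ⧸ Subgroup.zpowers x)) (Finset.range e) := by
    intro m hm m' hm' hmm
    rw [Finset.coe_range, Set.mem_Iio] at hm hm'
    wlog hle : m ≤ m' generalizing m m'
    · exact (this hm' hm hmm.symm (le_of_not_ge hle)).symm
    obtain ⟨q, rfl⟩ := Nat.exists_eq_add_of_le hle
    have h1 := QuotientGroup.eq.1 hmm
    rw [pow_add, inv_mul_cancel_left] at h1
    have h2 := Subgroup.orderOf_dvd_natCard _ h1
    rw [F.hyp.card_zpowers, Nat.dvd_prime hp, orderOf_eq_one_iff] at h2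
    rcases h2 with h2 | h2
    · have := Nat.eq_zero_of_dvd_of_lt (F.ord_s ▸ orderOf_dvd_of_pow_eq_one h2) (by omega : q < e)
      omega
    · exfalso
      have h3 : p ∣ e := by
        rw [← h2, ← F.ord_s]; exact orderOf_pow_dvd q
      exact F.not_dvd_e h3
  have hmove : ∀ q ∉ S, ∀ n m : ℕ, n < p → m < p →
      (x ^ n : G) • q = (x ^ m : G) • q → n = m := by
    intro q hq n m hn hm hnm
    by_contra hne
    wlog hle : n < m generalizing n m
    · exact this m n hm hn hnm.symm (Ne.symm hne) (lt_of_le_of_ne (not_lt.1 hle) (Ne.symm hne))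
    obtain ⟨r, rfl⟩ := Nat.exists_eq_add_of_le hle.le
    have h1 : (x ^ r : G) • q = q := by
      rw [pow_add, mul_smul] at hnm
      exact (MulAction.injective _ hnm).symm
    have hr : ¬ p ∣ r := fun hd => by have := Nat.le_of_dvd (by omega) hd; omega
    obtain ⟨j, hj⟩ := F.hyp.exists_pow_eq_self hr
    have h2 : x • q = q := by
      have h2 : ∀ j : ℕ, ((x ^ r : G) ^ j) • q = q := fun j => by
        induction j with
        | zero => simp
        | succ j ih => rw [pow_succ, mul_smul, h1, ih]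
      calc x • q = ((x ^ r : G) ^ j) • q := by rw [hj]
        _ = q := h2 j
    have h3 : q.out⁻¹ * x * q.out ∈ Subgroup.zpowers x := by
      conv_lhs at h2 => rw [← QuotientGroup.out_eq' q]
      conv_rhs at h2 => rw [← QuotientGroup.out_eq' q]
      have h4 := QuotientGroup.eq.1 h2.symm
      change q.out⁻¹ * (x * q.out) ∈ Subgroup.zpowers x at h4
      rwa [← mul_assoc] at h4
    obtain ⟨i, hi, hqi⟩ := F.fixed_coset h3
    rw [QuotientGroup.out_eq'] at hqi
    exact hq (Finset.mem_image.2 ⟨i, Finset.mem_range.2 hi, hqi.symm⟩)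
  have hrest : ∑ q ∈ Sᶜ, Rg.mkQ (T q.out b₀) = 0 := by
    rw [← Finset.sum_fiberwise Sᶜ (fun q => MulAction.orbit (Subgroup.zpowers x) q)]
    refine Finset.sum_eq_zero fun O _ => ?_
    rcases (Sᶜ.filter fun q => MulAction.orbit (Subgroup.zpowers x) q = O).eq_empty_or_nonempty with
      h | ⟨q, hq⟩
    · rw [h, Finset.sum_empty]
    rw [Finset.mem_filter, Finset.mem_compl] at hq
    obtain ⟨hqS, rfl⟩ := hq
    have hfilter : (Sᶜ.filter fun q' => MulAction.orbit (Subgroup.zpowers x) q' =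
        MulAction.orbit (Subgroup.zpowers x) q) =
        (Finset.range p).image fun n => (x ^ n : G) • q := by
      ext q'
      simp only [Finset.mem_filter, Finset.mem_compl, Finset.mem_image, Finset.mem_range]
      constructor
      · rintro ⟨-, h⟩
        obtain ⟨⟨y, hy⟩, hy'⟩ := MulAction.orbit_eq_iff.1 h
        obtain ⟨n, hn, rfl⟩ := F.hyp.mem_zpowers_iff_pow.1 hy
        exact ⟨n, hn, hy'⟩
      · rintro ⟨n, hn, rfl⟩
        refine ⟨fun hmem => hqS ?_, MulAction.orbit_eq_iff.2
          ⟨⟨x ^ n, pow_mem (Subgroup.mem_zpowers x) n⟩, rfl⟩⟩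
        obtain ⟨m, hm, hmq⟩ := Finset.mem_image.1 hmem
        have h5 : q = (((x ^ n)⁻¹ * s ^ m : G) : G ⧸ Subgroup.zpowers x) := by
          rw [← smul_eq_mul (x ^ n)⁻¹, ← MulAction.Quotient.smul_coe, hmq, inv_smul_smul]
        refine Finset.mem_image.2 ⟨m, hm, ?_⟩
        rw [h5]
        refine QuotientGroup.eq.2 ?_
        have h1 : s ∈ Subgroup.normalizer (Subgroup.zpowers x : Set G) :=
          F.hyp.mem_norm_iff.2 ⟨c, fun hd => hck0 ((ZMod.natCast_eq_zero_iff _ _).2 hd), F.conj⟩
        have h6 := (Subgroup.mem_normalizer_iff.1 (inv_mem (pow_mem h1 m)) ((x ^ n)⁻¹)).1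
          (inv_mem (pow_mem (Subgroup.mem_zpowers x) n))
        rwa [inv_inv, mul_assoc] at h6
    rw [hfilter, Finset.sum_image fun n hn m hm h =>
      hmove q hqS n m (Finset.mem_range.1 hn) (Finset.mem_range.1 hm) h]
    have hterm : ∀ n ∈ Finset.range p, Rg.mkQ (T ((x ^ n : G) • q).out b₀) =
        Rg.mkQ (τ q.out *ᵥ f₀ (π q.out⁻¹ (π (x ^ n)⁻¹ b₀))) := by
      intro n _
      have h1 : ((x ^ n * q.out : G) : G ⧸ Subgroup.zpowers x) = (((x ^ n : G) • q).out : G) := by
        rw [QuotientGroup.out_eq']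
        conv_rhs => rw [← QuotientGroup.out_eq' q]
        rfl
      rw [hTcoset _ _ h1 b₀ hb₀A, hTapp, map_mul τ, ← Matrix.mulVec_mulVec, hmk, _root_.mul_inv_rev,
        map_mul π, Module.End.mul_apply]
    rw [Finset.sum_congr rfl hterm, ← map_sum, ← Matrix.mulVec_sum, ← map_sum, ← map_sum]
    have hz : ∑ n ∈ Finset.range p, π (x ^ n)⁻¹ b₀ = 0 := by
      funext b
      obtain ⟨j, rfl⟩ := pt.surjective b
      simp only [Finset.sum_apply, hπapp, inv_inv, Pi.zero_apply]
      rw [Finset.sum_congr rfl fun (n : ℕ) _ => show b₀ ((x ^ n : G) • pt j) = b₀ (pt ((n : ZMod p) + j)) by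
        rw [hpt, hpt, ← F.xp_natCast n, F.xp_smul_xp]]
      refine Eq.trans ?_ ((Equiv.sum_comp pt b₀).trans ((hmemA b₀).1 hb₀A))
      refine Finset.sum_nbij (fun n => (n : ZMod p) + j) (fun _ _ => Finset.mem_univ _)
        (fun n hn m hm h => ?_) (fun i _ => ?_) fun n _ => rfl
      · have h' := add_right_cancel (show (n : ZMod p) + j = (m : ZMod p) + j from h)
        rw [ZMod.natCast_eq_natCast_iff', Nat.mod_eq_of_lt (Finset.mem_range.1 hn),
          Nat.mod_eq_of_lt (Finset.mem_range.1 hm)] at h'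
        exact h'
      · exact ⟨(i - j).val, Finset.mem_range.2 (ZMod.val_lt _), by
          simp only [ZMod.natCast_zmod_val, sub_add_cancel]⟩
    rw [hz, map_zero, map_zero, Matrix.mulVec_zero, map_zero]
  have hΦb₀ : Φ b₀ ≠ 0 := fun h0 => by
    have h1 := congrArg Rg.mkQ h0
    rw [hΦapp, map_sum, map_zero, ← Finset.sum_add_sum_compl S, hrest, add_zero, hS,
      Finset.sum_image hSinj, Finset.sum_congr rfl fun m _ => show
        Rg.mkQ (T (((s ^ m : G) : G ⧸ Subgroup.zpowers x)).out b₀) = Rg.mkQ v by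
          rw [hTcoset _ _ (QuotientGroup.out_eq' _).symm b₀ hb₀A, hfix],
      Finset.sum_const, Finset.card_range, ← Nat.cast_smul_eq_nsmul k, smul_eq_zero,
      Submodule.mkQ_apply, Submodule.Quotient.mk_eq_zero] at h1
    rcases h1 with h1 | h1
    · exact F.not_dvd_e ((CharP.cast_eq_zero_iff k p e).1 h1)
    · exact hvR h1
  -- the kernel
  set C : Submodule k (α → k) := (Cfsg.permConstants k G α).toSubmodule with hC
  have hCA : C ≤ A := by
    rw [hC, show (Cfsg.permConstants k G α).toSubmodule = Submodule.span k {fun _ => (1 : k)} from rfl,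
      Submodule.span_singleton_le_iff_mem, hmemA, Finset.sum_const, Finset.card_univ, F.card_alpha,
      nsmul_one, CharP.cast_eq_zero]
  have hone : Φ (fun _ => (1 : k)) = 0 := by
    set w := Φ (fun _ => (1 : k)) with hw
    have hw1 : ∀ g : G, τ g *ᵥ w = w := fun g =>
      (hΦeq g _ (hCA (Submodule.subset_span rfl))).symm.trans (congrArg Φ rfl)
    haveI := Fintype.ofFinite (stabilizer G a₀)
    rw [finsum_eq_sum_of_fintype] at hH
    have h1 := congrArg (fun M : Matrix (Fin (p + 1)) (Fin (p + 1)) k => M *ᵥ w) hH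
    simp only [Matrix.sum_mulVec, hw1, Finset.sum_const, Finset.card_univ, Matrix.zero_mulVec,
      ← Nat.card_eq_fintype_card, ← Nat.cast_smul_eq_nsmul k, smul_eq_zero] at h1
    exact h1.resolve_left fun h2 => F.not_dvd_card_stabilizer ((CharP.cast_eq_zero_iff k p _).1 h2)
  have hker : A ⊓ LinearMap.ker Φ = C := by
    refine (CfsgLib.Perm.heart_irreducible F.card_alpha G F.nonsolvable (A ⊓ LinearMap.ker Φ)
      (fun g f hf => ?_) ?_ inf_le_left).resolve_right fun h => hΦb₀ ?_
    · exact ⟨hAst g f hf.1, by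
        have h0 : Φ f = 0 := hf.2
        show Φ (π g f) = 0
        rw [hΦeq g f hf.1, h0, Matrix.mulVec_zero]⟩
    · refine le_inf hCA ?_
      show Submodule.span k {fun _ => (1 : k)} ≤ _
      rw [Submodule.span_singleton_le_iff_mem]
      exact hone
    · exact (show b₀ ∈ A ⊓ LinearMap.ker Φ from h.symm ▸ hb₀A).2
  set U : Submodule k (Fin (p + 1) → k) := A.map Φ with hU
  have hUst : ∀ g : G, ∀ w ∈ U, (τ g).mulVecLin w ∈ U := by
    rintro g _ ⟨f, hf, rfl⟩
    exact ⟨π g f, hAst g f hf, hΦeq g f hf⟩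
  let sumF : (α → k) →ₗ[k] k := ∑ b, LinearMap.proj b
  have hsumF : ∀ f, sumF f = ∑ b, f b := fun f => by simp [sumF]
  have hkerS : LinearMap.ker sumF = A := by
    ext f; rw [LinearMap.mem_ker, hsumF, hmemA]
  have hsurjS : Function.Surjective sumF := fun r => ⟨Pi.single a₀ r, by simp [hsumF]⟩
  have hrA : Module.finrank k A = p - 1 := by
    have h1 := LinearMap.finrank_range_add_finrank_ker sumF
    rw [hkerS, LinearMap.range_eq_top.2 hsurjS, finrank_top, Module.finrank_self,
      Module.finrank_fintype_fun_eq_card, F.card_alpha] at h1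
    omega
  have hrC : Module.finrank k C = 1 :=
    finrank_span_singleton fun h => one_ne_zero (congrFun h a₀)
  have hrU : Module.finrank k U + 1 = p - 1 := by
    rw [← hrA, ← finrank_map_add_inf_ker A Φ, hker, hrC]
  have hrW : Module.finrank k ((Fin (p + 1) → k) ⧸ U) = 3 := by
    have h1 := U.finrank_quotient_add_finrank
    rw [Module.finrank_fintype_fun_eq_card, Fintype.card_fin] at h1
    have := F.five_le
    omega
  let bW := Module.finBasisOfFinrankEq k _ hrW
  let L : G →* Module.End k ((Fin (p + 1) → k) ⧸ U) :=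
    { toFun := fun g => U.mapQ U (τ g).mulVecLin (hUst g)
      map_one' := Submodule.linearMap_qext _ (LinearMap.ext fun w => by simp)
      map_mul' := fun a b => Submodule.linearMap_qext _ (LinearMap.ext fun w => by simp) }
  let R : G →* Matrix (Fin 3) (Fin 3) k :=
    (LinearMap.toMatrixAlgEquiv bW).toAlgHom.toMonoidHom.comp L
  have hRtr : ∀ g, (R g).trace =
      (τ g).trace - ((Finset.univ.filter fun b : α => g • b = b).card : k) + 2 := by
    intro g
    have h0 : (R g).trace = LinearMap.trace k _ (L g) :=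
      (LinearMap.trace_eq_matrix_trace k bW (L g)).symm
    -- the permutation module
    have e1 := trace_eq_of_surjective sumF hsurjS (π g) LinearMap.id
      (LinearMap.ext fun f => by
        rw [LinearMap.comp_apply, LinearMap.comp_apply, LinearMap.id_apply, hsumF, hsumF]
        exact Equiv.sum_comp (MulAction.toPerm g⁻¹) f)
      (fun f hf => by rw [hkerS] at hf ⊢; exact hAst g f hf)
    -- the sum-zero part
    let ΦA : A →ₗ[k] U := (Φ.domRestrict A).codRestrict U fun f => ⟨f, f.2, rfl⟩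
    have hsurjA : Function.Surjective ΦA := by
      rintro ⟨_, f, hf, rfl⟩
      exact ⟨⟨f, hf⟩, rfl⟩
    have e2 := trace_eq_of_surjective ΦA hsurjA ((π g).restrict (hAst g))
      (((τ g).mulVecLin).restrict (hUst g))
      (LinearMap.ext fun f => Subtype.ext (hΦeq g f f.2))
      (fun f hf => by
        rw [LinearMap.mem_ker] at hf ⊢
        have h1 : Φ (f : α → k) = 0 := congrArg Subtype.val hf
        refine Subtype.ext ?_
        show Φ (π g f) = 0
        rw [hΦeq g f f.2, h1, Matrix.mulVec_zero])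
    have hK : LinearMap.ker ΦA = C.comap A.subtype := by
      ext f
      rw [LinearMap.mem_ker, Submodule.mem_comap, ← hker]
      exact ⟨fun h => ⟨f.2, congrArg Subtype.val h⟩, fun h => Subtype.ext h.2⟩
    have hidK : ∀ f : A, f ∈ LinearMap.ker ΦA → π g (f : α → k) = f := by
      intro f hf
      rw [hK] at hf
      obtain ⟨r, hr⟩ := Submodule.mem_span_singleton.1 hf
      funext b
      rw [hπapp]
      exact (congrFun hr (g⁻¹ • b)).symm.trans (congrFun hr b)
    have hrK : Module.finrank k (LinearMap.ker ΦA) = 1 := by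
      rw [hK, (Submodule.comapSubtypeEquivOfLe hCA).finrank_eq, hrC]
    have hK1 : ∀ (f : Module.End k (LinearMap.ker ΦA)), (∀ y, f y = y) →
        LinearMap.trace k _ f = 1 := fun f hf => by
      have h1 : f = 1 := LinearMap.ext hf
      haveI : Module.Free k (LinearMap.ker ΦA) :=
        @Module.Free.of_divisionRing k _ _ (Submodule.addCommGroup (LinearMap.ker ΦA)) _
      have h2 := LinearMap.trace_one k (LinearMap.ker ΦA)
      rw [hrK, Nat.cast_one] at h2
      rw [h1]
      exact h2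
    rw [hK1 _ fun y => Subtype.ext (Subtype.ext (hidK y y.2))] at e2
    -- the module
    have e3 := trace_eq_of_surjective U.mkQ (Submodule.mkQ_surjective U) (τ g).mulVecLin (L g)
      (LinearMap.ext fun w => rfl) (fun w hw => by rw [Submodule.ker_mkQ] at hw ⊢; exact hUst g w hw)
    have h3 : LinearMap.trace k _ (τ g).mulVecLin = (τ g).trace := Matrix.trace_toLin'_eq (τ g)
    rw [h3] at e3
    rw [F.trace_permRep, LinearMap.trace_id, Module.finrank_self, Nat.cast_one] at e1
    have hAeq : ∀ (S' : Submodule k (α → k)) (hS' : S' = A) (hst : ∀ f ∈ S', π g f ∈ S'),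
        LinearMap.trace k S' ((π g).restrict hst) = LinearMap.trace k A ((π g).restrict (hAst g)) := by
      rintro S' rfl hst; rfl
    have hUeq : ∀ (S' : Submodule k (Fin (p + 1) → k)) (hS' : S' = U)
        (hst : ∀ w ∈ S', (τ g).mulVecLin w ∈ S'),
        LinearMap.trace k S' ((τ g).mulVecLin.restrict hst) =
          LinearMap.trace k U ((τ g).mulVecLin.restrict (hUst g)) := by
      rintro S' rfl hst; rfl
    rw [hAeq _ hkerS] at e1
    rw [hUeq _ (Submodule.ker_mkQ U)] at e3
    rw [h0]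
    linear_combination e1 + e2 - e3
  refine ⟨R, fun g => ?_, ?_⟩
  · rw [hRtr, hRtr, htr, F.natCast_fix_inv]
  · rw [hRtr, F.card_fix_s (fun hd => by have := Nat.le_of_dvd one_pos hd; omega)]
    push_cast
    ring

end Frame

end CfsgLib.UniqueDegreeP
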